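import Groth.Agent.Desc49.Total
import Groth.Agent.TopCoh49.Top

/-!
Cohomological descent spectral sequences from a local exactness criterion.
-/

universe u

open CategoryTheory Limits TopologicalSpace Opposite
open Groth.Agent.TopCoh49 Groth.Agent.SpSeq49

namespace Groth.Agent.Desc49

variable {S : TopCat.{u}}

/-- The Godement resolution as a flasque resolution. -/
noncomputable def Fam.fres (G : Fam S) (Y : Over S) : FRes (G.sh Y) where
  K n := (G.A (n + 1)).sh Y
  flasque n := G.isFlasque_A n Y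
  d n := (G.dA (n + 1)).toSheafHom Y
  ε := (G.dA 0).toSheafHom Y
  inj U := (injective_iff_map_eq_zero _).mpr fun x hx => G.eq_zero_of_dA_zero x hx
  ε_d U s := G.dA_dA 0 Y U s
  d_d n U s := G.dA_dA (n + 1) Y U s
  exact₀ U s hs x hx := by
    obtain ⟨V, hV, t, hxV, ht⟩ := G.exists_near_preimage 0 s hs x hx
    exact ⟨V, hV, t, hxV, ht⟩
  exactS n U s hs x hx := by
    obtain ⟨V, hV, t, hxV, ht⟩ := G.exists_near_preimage (n + 1) s hs x hx
    exact ⟨V, hV, t, hxV, ht⟩

lemma vIn_zsmul (M : DC.{u}) (k : ℤ) (y : M.Fam) (p q : ℕ) : M.vIn (k • y) p q = k • M.vIn y p q := by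
  rcases q with _ | q
  · exact (zsmul_zero k).symm
  · exact map_zsmul (M.v p q) k (y p q)

lemma sgn_sq (k : ℕ) : DC.sgn k * DC.sgn k = 1 := by simp [DC.sgn, ← mul_pow]

namespace Nerve

variable (N : Nerve S) (F : CohTop.Ab S)

/-- Local exactness of the augmented complexes of cohomology, in every degree. -/
def CritL : Prop :=
  ∀ (W : Opens S) (s : S), s ∈ W → ∀ (p q : ℕ) (x : N.Cx (Aq F q) p W),
    (N.dc F W).v p q x = 0 → (∃ w : (N.dc F W).Fam, (N.dc F W).vIn w (p + 1) q = (N.dc F W).h p q x) →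
      ∃ (W' : Opens S) (h : W' ≤ W) (z y : (N.dc F W').Fam) (t : F.obj.obj (op W')), s ∈ W' ∧
        (∀ a b, (N.dc F W').v a b (z a b) = 0) ∧
        (N.rW (Aq F q) p h x : (N.dc F W').Φ p q) =
          (N.dc F W').hIn z p q + (N.dc F W').vIn y p q + N.aug F W' t p q

/-- Local injectivity of the augmentation. -/
def CritI : Prop :=
  ∀ (W : Opens S) (s : S), s ∈ W → ∀ t : F.obj.obj (op W), N.aug F W t = 0 →
    ∃ (W' : Opens S) (h : W' ≤ W), s ∈ W' ∧ rs F.obj h t = 0

lemma aug_apply_of_ne (W : Opens S) (t : F.obj.obj (op W)) {p q : ℕ} (h : ¬ (p = 0 ∧ q = 0)) :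
    N.aug F W t p q = 0 := by
  rcases p with _ | p <;> rcases q with _ | q
  · exact absurd ⟨rfl, rfl⟩ h
  all_goals rfl

lemma eq_zero_of_lt {W : Opens S} {n : ℕ} {y : (N.dc F W).Fam}
    (hy : y ∈ (N.dc F W).Supp Set.univ (n : ℤ)) {k : ℕ} (hk : n < k) (hlow : ∀ p q, p < k → y p q = 0) :
    y = 0 := by
  funext p q
  by_cases hp : p < k
  · exact hlow p q hp
  · exact hy p q fun h => hp (by have := h.2; omega)

lemma Dt_mem' {W : Opens S} {m : ℤ} {y : (N.dc F W).Fam} (hy : y ∈ (N.dc F W).Supp Set.univ m) :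
    (N.dc F W).Dt y ∈ (N.dc F W).Supp Set.univ (m + 1) :=
  tr_univ N F W ((N.dc F W).Dt y) ▸ (N.dc F W).D_mem hy

lemma sgn_smul_eq_zero {B : Type u} [AddCommGroup B] (k : ℕ) (b : B) (hb : DC.sgn k • b = 0) : b = 0 := by
  rcases neg_one_pow_eq_or ℤ k with e | e <;> simp only [DC.sgn, e] at hb
  · rwa [one_smul] at hb
  · rwa [neg_one_zsmul, neg_eq_zero] at hb

lemma v_zero_of_cycle {W : Opens S} {y : (N.dc F W).Fam} (hD : (N.dc F W).Dt y = 0) {k : ℕ}
    (hlow : ∀ p q, p < k → y p q = 0) (q : ℕ) : (N.dc F W).v k q (y k q) = 0 := by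
  have e : (N.dc F W).Dt y k (q + 1) = 0 := congrFun (congrFun hD k) (q + 1)
  rw [DC.Dt_apply] at e
  have h0 : (N.dc F W).hIn y k (q + 1) = 0 := by
    rcases k with _ | k
    · rfl
    · exact (congrArg ((N.dc F W).h k (q + 1)) (hlow k (q + 1) (Nat.lt_succ_self k))).trans
        (map_zero ((N.dc F W).h k (q + 1)))
  rw [h0, add_zero] at e
  exact sgn_smul_eq_zero k _ e

lemma h_eq_of_cycle {W : Opens S} {y : (N.dc F W).Fam} (hD : (N.dc F W).Dt y = 0) (k q : ℕ) :
    (N.dc F W).vIn ((-DC.sgn (k + 1)) • y) (k + 1) q = (N.dc F W).h k q (y k q) := by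
  have e : (N.dc F W).Dt y (k + 1) q = 0 := congrFun (congrFun hD (k + 1)) q
  rw [DC.Dt_apply] at e
  rw [vIn_zsmul, neg_smul]
  exact (eq_neg_of_add_eq_zero_right e).symm

open Classical in
/-- The correcting family of one step. -/
noncomputable def corr {W : Opens S} (z y' : (N.dc F W).Fam) (k q : ℕ) : (N.dc F W).Fam :=
  fun a b => (if a + 1 = k ∧ b = q then z a b else 0) + (if a = k ∧ b + 1 = q then DC.sgn k • y' a b else 0)

lemma corr_mem {W : Opens S} (z y' : (N.dc F W).Fam) (k q : ℕ) :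
    N.corr F z y' k q ∈ (N.dc F W).Supp Set.univ (((k + q : ℕ) : ℤ) - 1) := fun a b hab => by
  have hne : (a : ℤ) + b ≠ ((k + q : ℕ) : ℤ) - 1 := fun e => hab ⟨Set.mem_univ a, e⟩
  show (if _ then _ else _) + (if _ then _ else _) = _
  rw [if_neg (show ¬ (a + 1 = k ∧ b = q) by omega), if_neg (show ¬ (a = k ∧ b + 1 = q) by omega), add_zero]

lemma vIn_corr {W : Opens S} (z y' : (N.dc F W).Fam) (k q : ℕ) :
    DC.sgn k • (N.dc F W).vIn (N.corr F z y' k q) k q = (N.dc F W).vIn y' k q := by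
  rcases q with _ | q
  · exact zsmul_zero _
  · show DC.sgn k • (N.dc F W).v k q (N.corr F z y' k (q + 1) k q) = (N.dc F W).v k q (y' k q)
    have e : N.corr F z y' k (q + 1) k q = DC.sgn k • y' k q := by
      show (if _ then _ else _) + (if _ then _ else _) = _
      rw [if_neg (show ¬ (k + 1 = k ∧ q = q + 1) by omega), if_pos ⟨rfl, rfl⟩, zero_add]
    rw [e, map_zsmul, smul_smul, sgn_sq, one_smul]

lemma hIn_corr {W : Opens S} (z y' : (N.dc F W).Fam) (k q : ℕ) :
    (N.dc F W).hIn (N.corr F z y' k q) k q = (N.dc F W).hIn z k q := by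
  rcases k with _ | k
  · rfl
  · show (N.dc F W).h k q (N.corr F z y' (k + 1) q k q) = (N.dc F W).h k q (z k q)
    refine congrArg _ ?_
    show (if _ then _ else _) + (if _ then _ else _) = _
    rw [if_pos ⟨rfl, rfl⟩, if_neg (show ¬ (k = k + 1 ∧ q + 1 = q) by omega), add_zero]

lemma Dt_corr_low {W : Opens S} (z y' : (N.dc F W).Fam) (hz : ∀ a b, (N.dc F W).v a b (z a b) = 0)
    (k q : ℕ) {p : ℕ} (hp : p < k) (b : ℕ) : (N.dc F W).Dt (N.corr F z y' k q) p b = 0 := by
  rw [DC.Dt_apply]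
  have a1 : (N.dc F W).vIn (N.corr F z y' k q) p b = 0 := by
    rcases b with _ | b
    · rfl
    · show (N.dc F W).v p b (N.corr F z y' k q p b) = 0
      simp only [corr]
      rw [if_neg (show ¬ (p = k ∧ b + 1 = q) by omega), add_zero]
      split_ifs with h
      · exact hz p b
      · exact map_zero ((N.dc F W).v p b)
  have a2 : (N.dc F W).hIn (N.corr F z y' k q) p b = 0 := by
    rcases p with _ | p
    · rfl
    · show (N.dc F W).h p b (N.corr F z y' k q p b) = 0
      simp only [corr]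
      rw [if_neg (show ¬ (p + 1 = k ∧ b = q) by omega), if_neg (show ¬ (p = k ∧ b + 1 = q) by omega),
        add_zero, map_zero]
  rw [a1, a2, smul_zero, add_zero]

/-- One step of the elimination. -/
lemma total_step (hL : N.CritL F) (k q : ℕ) {W : Opens S} {s : S} (hs : s ∈ W) {y : (N.dc F W).Fam}
    (hy : y ∈ (N.dc F W).Supp Set.univ ((k + q : ℕ) : ℤ)) (hD : (N.dc F W).Dt y = 0)
    (hlow : ∀ p b, p < k → y p b = 0) :
    ∃ (W₁ : Opens S) (h : W₁ ≤ W) (u : (N.dc F W₁).Fam) (t : F.obj.obj (op W₁)) (y₂ : (N.dc F W₁).Fam),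
      s ∈ W₁ ∧ u ∈ (N.dc F W₁).Supp Set.univ (((k + q : ℕ) : ℤ) - 1) ∧ (k + q ≠ 0 → t = 0) ∧
      y₂ ∈ (N.dc F W₁).Supp Set.univ ((k + q : ℕ) : ℤ) ∧ (N.dc F W₁).Dt y₂ = 0 ∧
      (∀ p b, p < k + 1 → y₂ p b = 0) ∧ N.rM F h y = y₂ + (N.dc F W₁).Dt u + N.aug F W₁ t := by
  classical
  obtain ⟨W₁, h₁, z, y', t₁, hs₁, hz, hx⟩ :=
    hL W s hs k q (y k q) (N.v_zero_of_cycle F hD hlow q) ⟨_, N.h_eq_of_cycle F hD k q⟩
  have ht : ∃ t : F.obj.obj (op W₁), N.aug F W₁ t k q = N.aug F W₁ t₁ k q ∧ (k + q ≠ 0 → t = 0) := by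
    by_cases h : k + q = 0
    · exact ⟨t₁, rfl, fun h' => absurd h h'⟩
    · refine ⟨0, ?_, fun _ => rfl⟩
      rw [map_zero, N.aug_apply_of_ne F W₁ t₁ (fun h' => h (by omega))]
      rfl
  obtain ⟨t, ht, ht0⟩ := ht
  let u := N.corr F z y' k q
  have hu := N.corr_mem F z y' k q
  have haug : N.aug F W₁ t ∈ (N.dc F W₁).Supp Set.univ ((k + q : ℕ) : ℤ) := by
    by_cases h0 : k + q = 0
    · rw [h0]
      exact N.aug_mem F W₁ t
    · rw [ht0 h0, map_zero]
      exact zero_mem _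
  have hDu : (N.dc F W₁).Dt u ∈ (N.dc F W₁).Supp Set.univ ((k + q : ℕ) : ℤ) := by
    have := N.Dt_mem' F hu
    rwa [sub_add_cancel] at this
  refine ⟨W₁, h₁, u, t, N.rM F h₁ y - (N.dc F W₁).Dt u - N.aug F W₁ t, hs₁, hu, ht0,
    sub_mem (sub_mem (N.rM_mem F h₁ hy) hDu) haug, ?_, ?_, ?_⟩
  · rw [map_sub, map_sub, DC.Dt_Dt, N.Dt_aug, ← N.rM_Dt, hD, map_zero, sub_zero, sub_zero]
  · intro p b hp
    show N.rM F h₁ y p b - (N.dc F W₁).Dt u p b - N.aug F W₁ t p b = 0
    by_cases hb : p + b = k + q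
    swap
    · have hne : ¬ (p ∈ Set.univ ∧ (p : ℤ) + b = ((k + q : ℕ) : ℤ)) := fun h => hb (by have := h.2; omega)
      rw [N.rM_mem F h₁ hy p b hne, hDu p b hne, haug p b hne, sub_zero, sub_zero]
    rcases Nat.lt_succ_iff_lt_or_eq.mp hp with hpk | rfl
    · have e1 : N.rM F h₁ y p b = 0 :=
        (congrArg (N.rW (Aq F b) p h₁) (hlow p b hpk)).trans (map_zero (N.rW (Aq F b) p h₁))
      rw [e1, N.Dt_corr_low F z y' hz k q hpk b, sub_zero, zero_sub, neg_eq_zero]
      by_cases h0 : k + q = 0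
      · omega
      · rw [ht0 h0, map_zero]
        rfl
    · obtain rfl : b = q := by omega
      have e1 : N.rM F h₁ y p b = (N.dc F W₁).hIn z p b + (N.dc F W₁).vIn y' p b + N.aug F W₁ t₁ p b := hx
      rw [e1, ht, DC.Dt_apply, N.vIn_corr, N.hIn_corr]
      abel
  · abel

/-- Local exactness of the total complex. -/
theorem total_exact (hL : N.CritL F) (n : ℕ) : ∀ (d k : ℕ), n + 1 ≤ k + d → ∀ (W : Opens S) (s : S),
    s ∈ W → ∀ y : (N.dc F W).Fam, y ∈ (N.dc F W).Supp Set.univ (n : ℤ) → (N.dc F W).Dt y = 0 →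
    (∀ p q, p < k → y p q = 0) →
    ∃ (W' : Opens S) (h : W' ≤ W) (u : (N.dc F W').Fam) (t : F.obj.obj (op W')), s ∈ W' ∧
      u ∈ (N.dc F W').Supp Set.univ ((n : ℤ) - 1) ∧ (n ≠ 0 → t = 0) ∧
      N.rM F h y = (N.dc F W').Dt u + N.aug F W' t := by
  intro d
  induction d with
  | zero =>
    intro k hk W s hs y hy _ hlow
    refine ⟨W, le_rfl, 0, 0, hs, zero_mem _, fun _ => rfl, ?_⟩
    rw [N.eq_zero_of_lt F hy (by omega) hlow, map_zero, map_zero, map_zero, add_zero]
  | succ d ih =>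
    intro k hk W s hs y hy hD hlow
    by_cases hkn : n < k
    · refine ⟨W, le_rfl, 0, 0, hs, zero_mem _, fun _ => rfl, ?_⟩
      rw [N.eq_zero_of_lt F hy hkn hlow, map_zero, map_zero, map_zero, add_zero]
    obtain ⟨q, rfl⟩ := Nat.exists_eq_add_of_le (Nat.le_of_not_lt hkn)
    obtain ⟨W₁, h₁, u₁, t₁, y₂, hs₁, hu₁, ht₁, hy₂, hD₂, hlow₂, e⟩ := N.total_step F hL k q hs hy hD hlow
    obtain ⟨W₂, h₂, u₂, t₂, hs₂, hu₂, ht₂, e₂⟩ := ih (k + 1) (by omega) W₁ s hs₁ y₂ hy₂ hD₂ hlow₂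
    refine ⟨W₂, h₂.trans h₁, u₂ + N.rM F h₂ u₁, t₂ + rs F.obj h₂ t₁, hs₂,
      add_mem hu₂ (N.rM_mem F h₂ hu₁), fun h => by rw [ht₂ h, ht₁ h, map_zero, add_zero], ?_⟩
    rw [← N.rM_rM F h₁ h₂, e, map_add, map_add, map_add, map_add, e₂, N.rM_Dt, N.rM_aug]
    abel

/-- The total flasque resolution. -/
noncomputable def fresTot (hL : N.CritL F) (hI : N.CritI F) : FRes F where
  K := N.K F
  flasque := N.isFlasque_K F
  d := N.dK F
  ε := N.εK F
  inj U := (injective_iff_map_eq_zero _).mpr fun t ht => by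
    choose V hV hsV h0 using fun x : U => hI U x.1 x.2 t (congrArg (N.fam F) ht)
    refine eq_of_forall_rs_eq F (V := V) hV (fun x hx => Opens.mem_iSup.mpr ⟨⟨x, hx⟩, hsV _⟩) fun x => ?_
    rw [h0, map_zero]
  ε_d U t := N.K_ext F (N.Dt_aug F U t)
  d_d n U y := N.K_ext F ((N.dc F U).Dt_Dt (N.fam F y))
  exact₀ U y hy x hx := by
    obtain ⟨W, h, u, t, hs, hu, -, e⟩ := N.total_exact F hL 0 1 0 le_rfl U x hx (N.fam F y)
      (N.fam_mem F y) (congrArg (N.fam F) hy) (fun p q hp => absurd hp (Nat.not_lt_zero p))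
    refine ⟨W, h, t, hs, N.K_ext F ?_⟩
    have hu0 : u = 0 := funext fun p => funext fun q => hu p q fun h => by have := h.2; omega
    rw [hu0, map_zero, zero_add] at e
    exact e.symm
  exactS n U y hy x hx := by
    obtain ⟨W, h, u, t, hs, hu, ht, e⟩ := N.total_exact F hL (n + 1) (n + 2) 0 (by omega) U x hx (N.fam F y)
      (N.fam_mem F y) (congrArg (N.fam F) hy) (fun p q hp => absurd hp (Nat.not_lt_zero p))
    rw [ht (Nat.succ_ne_zero n), map_zero, add_zero] at e
    have hu' : u ∈ (N.dc F W).Supp Set.univ (n : ℤ) := fun p q h => hu p q fun h' => h ⟨h'.1, by have := h'.2; omega⟩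
    exact ⟨W, h, N.ofFam F u hu', hs, N.K_ext F e.symm⟩

end Nerve

section Generic

variable {X : TopCat.{u}}

/-- The homology of a total complex identified with the sections of a flasque resolution. -/
lemma nonempty_tot_iso_of_res (M : DC.{u}) {G : CohTop.Ab X} (R : FRes G) (U : Opens X)
    (e : ∀ n : ℕ, (R.K n).obj.obj (op U) ≃+ M.Supp Set.univ (n : ℤ))
    (he : ∀ n x, (e (n + 1) (ap (R.d n) U x) : M.Fam) = M.Dt (e n x : M.Fam))
    (A : AddCommGrpCat.{u}) (n : ℕ) (η : E G n U ≃+ A) :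
    Nonempty ((M.tot Set.univ).homology (n : ℤ) ≅ A) := by
  have htr : ∀ y : M.Fam, M.tr Set.univ y = y := fun y =>
    funext fun p => funext fun q => M.tr_pos y (Set.mem_univ p) q
  let c : ((M.tot Set.univ).d (n : ℤ) ((n : ℤ) + 1)).hom.ker →+ R.cyc U n :=
    { toFun := fun y => ⟨(e n).symm y.1, (e (n + 1)).injective (by
        refine Subtype.ext ?_
        rw [he, map_zero]
        refine (congrArg (fun z : M.Supp Set.univ (n : ℤ) => M.Dt z.1) ((e n).apply_symm_apply y.1)).trans ?_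
        refine ((htr _).symm.trans ((M.tot_d_apply Set.univ _ _ rfl y.1).symm.trans
          (congrArg (fun w => M.elt w) y.2))).trans ?_
        rfl)⟩
      map_zero' := Subtype.ext (map_zero (e n).symm)
      map_add' := fun a b => Subtype.ext (map_add (e n).symm a.1 b.1) }
  let θ : ((M.tot Set.univ).d (n : ℤ) ((n : ℤ) + 1)).hom.ker →+ A :=
    η.toAddMonoidHom.comp ((FRes.θ n R U).comp c)
  refine nonempty_homology_iso_of_surj (i := (n : ℤ) - 1) (by omega) rfl θ ?_ ?_
  · intro a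
    obtain ⟨x, hx⟩ := FRes.θ_surjective n R U (η.symm a)
    refine ⟨⟨e n x.1, Subtype.ext ((M.tot_d_apply Set.univ _ _ rfl _).trans ((htr _).trans ?_))⟩, ?_⟩
    · refine (he n x.1).symm.trans ?_
      rw [x.2, map_zero]
      rfl
    · refine (congrArg η ((congrArg (FRes.θ n R U) (Subtype.ext ?_)).trans hx)).trans (η.apply_symm_apply a)
      exact (e n).symm_apply_apply x.1
  · intro y
    refine (map_eq_zero_iff η η.injective).trans ?_
    rcases n with _ | n
    · show FRes.θ 0 R U (c y) = 0 ↔ _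
      rw [FRes.θ_zero_iff]
      constructor
      · intro h
        exact ⟨0, (map_zero _).trans ((AddEquiv.map_eq_zero_iff (e 0).symm).mp h).symm⟩
      · rintro ⟨z, hz⟩
        have hz0 : z = 0 := by
          have := M.isZero_tot_X Set.univ (((0 : ℕ) : ℤ) - 1) fun p _ => by omega
          exact (AddCommGrpCat.subsingleton_of_isZero this).elim z 0
        rw [hz0, map_zero] at hz
        exact (congrArg (e 0).symm hz.symm).trans (map_zero (e 0).symm)
    · show FRes.θ (n + 1) R U (c y) = 0 ↔ _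
      rw [FRes.θ_succ_eq_zero_iff]
      constructor
      · rintro ⟨z, hz⟩
        refine ⟨(⟨(e n z).1, fun p q h => (e n z).2 p q fun h' => h ⟨h'.1, by have := h'.2; omega⟩⟩ :
          M.Supp Set.univ _), Subtype.ext ?_⟩
        refine (M.tot_d_apply Set.univ _ _ (by omega) _).trans ((htr _).trans ((he n z).symm.trans ?_))
        exact congrArg Subtype.val ((congrArg (e (n + 1)) hz).trans ((e (n + 1)).apply_symm_apply y.1))
      · rintro ⟨z, hz⟩
        let z' : M.Supp Set.univ (n : ℤ) := ⟨M.elt z, fun p q h =>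
          (show M.Supp Set.univ (((n + 1 : ℕ) : ℤ) - 1) from z).2 p q fun h' => h ⟨h'.1, by have := h'.2; omega⟩⟩
        refine ⟨(e n).symm z', (e (n + 1)).injective ?_⟩
        refine Subtype.ext ?_
        rw [he, AddEquiv.apply_symm_apply]
        refine ((htr _).symm.trans (M.tot_d_apply Set.univ (((n + 1 : ℕ) : ℤ) - 1) ((n + 1 : ℕ) : ℤ)
          (by omega) z).symm).trans ?_
        refine (congrArg (fun w => M.elt w) hz).trans ?_
        exact (congrArg Subtype.val ((e (n + 1)).apply_symm_apply y.1)).symm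

/-- The homology of a column identified with a product of sections of flasque resolutions. -/
lemma nonempty_col_iso_of_res (M : DC.{u}) (p : ℕ) {J : Type u} (Z : J → TopCat.{u})
    (G : ∀ j, CohTop.Ab (Z j)) (R : ∀ j, FRes (G j)) (U : ∀ j, Opens (Z j))
    (e : ∀ q, M.Φ p q ≃+ ∀ j, ((R j).K q).obj.obj (op (U j)))
    (he : ∀ q x j, e (q + 1) (M.v p q x) j = ap ((R j).d q) (U j) (e q x j))
    (A : J → Type u) [∀ j, AddCommGroup (A j)] (q : ℕ) (η : ∀ j, E (G j) q (U j) ≃+ A j) :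
    Nonempty ((M.tot {p}).homology ((p : ℤ) + q) ≅ AddCommGrpCat.of (∀ j, A j)) := by
  let c : ∀ j, (M.v p q).ker →+ (R j).cyc (U j) q := fun j =>
    { toFun := fun x => ⟨e q x.1 j, (he q x.1 j).symm.trans
        ((congrFun (congrArg (e (q + 1)) x.2) j).trans (congrFun (map_zero (e (q + 1))) j))⟩
      map_zero' := Subtype.ext (congrFun (map_zero (e q)) j)
      map_add' := fun a b => Subtype.ext (congrFun (map_add (e q) a.1 b.1) j) }
  let θ : (M.v p q).ker →+ (∀ j, A j) :=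
    { toFun := fun x j => η j (FRes.θ q (R j) (U j) (c j x))
      map_zero' := funext fun j => by simp
      map_add' := fun a b => funext fun j => by simp }
  refine M.nonempty_column_iso p q θ ?_ ?_
  · intro a
    choose x hx using fun j => FRes.θ_surjective q (R j) (U j) ((η j).symm (a j))
    refine ⟨⟨(e q).symm fun j => (x j).1, (e (q + 1)).injective (funext fun j => ?_)⟩, funext fun j => ?_⟩
    · rw [he, AddEquiv.apply_symm_apply]
      exact (x j).2.trans (congrFun (map_zero (e (q + 1))) j).symm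
    · refine (congrArg (η j) ((congrArg (FRes.θ q (R j) (U j)) (Subtype.ext ?_)).trans (hx j))).trans
        ((η j).apply_symm_apply _)
      exact congrFun ((e q).apply_symm_apply _) j
  · intro x
    constructor
    · intro h
      have hj : ∀ j, FRes.θ q (R j) (U j) (c j x) = 0 := fun j =>
        (η j).injective ((congrFun h j).trans (map_zero (η j)).symm)
      rcases q with _ | q
      · exact Or.inl ⟨rfl, (e 0).injective ((funext fun j => (FRes.θ_zero_iff _ _ _).mp (hj j)).trans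
          (map_zero (e 0)).symm)⟩
      · choose w hw using fun j => (FRes.θ_succ_eq_zero_iff q _ _ _).mp (hj j)
        refine Or.inr ⟨q, rfl, (e q).symm fun j => w j, (e (q + 1)).injective (funext fun j => ?_)⟩
        rw [he, AddEquiv.apply_symm_apply]
        exact hw j
    · intro h
      funext j
      refine (congrArg (η j) ?_).trans (map_zero (η j))
      rcases h with ⟨rfl, h0⟩ | ⟨q', rfl, w, hw⟩
      · exact (FRes.θ_zero_iff _ _ _).mpr ((congrFun (congrArg (e 0) h0) j).trans (congrFun (map_zero (e 0)) j))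
      · exact (FRes.θ_succ_eq_zero_iff q' _ _ _).mpr ⟨e q' w j,
          (he q' w j).symm.trans (congrFun (congrArg (e (q' + 1)) hw) j)⟩

/-- Cohomology over the preimage of the whole space. -/
noncomputable def topEquiv {Y Z : TopCat.{u}} (f : Y ⟶ Z) (G : CohTop.Ab Y) (q : ℕ) :
    E G q ((Opens.map f).obj ⊤) ≃+ E G q ⊤ :=
  AddEquiv.refl (E G q ⊤)

/-- Transport of cohomology along an isomorphism of sheaves. -/
noncomputable def emapIso {G G' : CohTop.Ab X} (i : G ≅ G') (q : ℕ) (U : Opens X) : E G q U ≃+ E G' q U where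
  toFun := emap i.hom q U
  invFun := emap i.inv q U
  left_inv x := by rw [emap_emap, Iso.hom_inv_id]; exact Abelian.Ext.comp_mk₀_id x
  right_inv x := by rw [emap_emap, Iso.inv_hom_id]; exact Abelian.Ext.comp_mk₀_id x
  map_add' := map_add _

end Generic

namespace Nerve

variable {S : TopCat.{u}} (N : Nerve S) (F : CohTop.Ab S)

lemma nonempty_tot_iso (hL : N.CritL F) (hI : N.CritI F) (n : ℕ) :
    Nonempty (((N.dc F ⊤).tot Set.univ).homology (n : ℤ) ≅ AddCommGrpCat.of (CohTop.H F n)) :=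
  nonempty_tot_iso_of_res (N.dc F ⊤) (N.fresTot F hL hI) ⊤
    (fun m => AddEquiv.refl ((N.dc F ⊤).Supp Set.univ (m : ℤ))) (fun _ _ => rfl)
    (AddCommGrpCat.of (CohTop.H F n)) n (HEquivTop F n).symm

/-- The equivalence between a term of the double complex and a product of sections. -/
noncomputable def colEquiv (p q : ℕ) (W : Opens S) :
    (N.dc F W).Φ p q ≃+ ∀ j : N.J p, (((mdl F).fres (N.Y p j)).K q).obj.obj (op (PreNerve.pre W)) :=
  AddEquiv.refl (N.Cx (Aq F q) p W)

lemma colEquiv_v (p q : ℕ) (W : Opens S) (x : (N.dc F W).Φ p q) (j : N.J p) :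
    N.colEquiv F p (q + 1) W ((N.dc F W).v p q x) j =
      ap (((mdl F).fres (N.Y p j)).d q) (PreNerve.pre W) (N.colEquiv F p q W x j) := rfl

/-- The comparison of the cohomology of the model with that of the inverse image. -/
noncomputable def hMdl (p q : ℕ) (j : N.J p) :
    E ((mdl F).sh (N.Y p j)) q (PreNerve.pre (⊤ : Opens S)) ≃+
      CohTop.H ((CohTop.pull (N.Y p j).hom).obj F) q :=
  ((topEquiv (N.Y p j).hom ((mdl F).sh (N.Y p j)) q).trans
    (emapIso (pullMdlIso F (N.Y p j)).symm q ⊤)).trans (HEquivTop _ q).symm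

lemma nonempty_col_iso (p q : ℕ) :
    Nonempty (((N.dc F ⊤).tot {p}).homology ((p : ℤ) + q) ≅
      AddCommGrpCat.of (∀ j : N.J p, CohTop.H ((CohTop.pull (N.Y p j).hom).obj F) q)) :=
  nonempty_col_iso_of_res (N.dc F ⊤) p (fun j => (N.Y p j).left) (fun j => (mdl F).sh (N.Y p j))
    (fun j => (mdl F).fres (N.Y p j)) (fun _ => PreNerve.pre ⊤) (fun q' => N.colEquiv F p q' ⊤)
    (fun q' x j => N.colEquiv_v F p q' ⊤ x j) _ q (fun j => N.hMdl F p q j)

/-- The descent spectral sequence. -/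
theorem exists_descent (hL : N.CritL F) (hI : N.CritI F) (B : ℤ × ℤ → AddCommGrpCat.{u})
    (eB : ∀ p q : ℕ, Nonempty (AddCommGrpCat.of
      (∀ j : N.J p, CohTop.H ((CohTop.pull (N.Y p j).hom).obj F) q) ≅ B ((p : ℤ), (q : ℤ))))
    (hB : ∀ p q : ℤ, p < 0 ∨ q < 0 → IsZero (B (p, q))) :
    ∃ (E : CohomologicalSpectralSequence AddCommGrpCat.{u} 1)
      (a : SpSeq.Abutment E (fun n : ℤ =>
        if 0 ≤ n then AddCommGrpCat.of (CohTop.H F n.toNat) else AddCommGrpCat.of PUnit.{u + 1})),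
      (∀ n, a.IsFinite n) ∧ SpSeq.IsBounded E ∧
      ∀ p q : ℤ, Nonempty ((E.page 1 le_rfl).X (p, q) ≅ B (p, q)) := by
  refine (N.dc F ⊤).exists_spectralSequence ?_ _ (fun p q => N.nonempty_col_iso F p q) B eB hB
  intro n
  by_cases hn : 0 ≤ n
  · obtain ⟨m, rfl⟩ := Int.eq_ofNat_of_zero_le hn
    obtain ⟨e⟩ := N.nonempty_tot_iso F hL hI m
    exact ⟨e ≪≫ eqToIso (if_pos (Int.natCast_nonneg m)).symm⟩
  · rw [if_neg hn]
    refine ⟨(ShortComplex.isZero_homology_of_isZero_X₂ _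
      ((N.dc F ⊤).isZero_tot_X Set.univ n fun p _ => by omega)).iso ?_⟩
    exact AddCommGrpCat.isZero_of_subsingleton _

end Nerve

end Groth.Agent.Desc49
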