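import Groth.Agent.Desc49.Descent
import Mathlib.CategoryTheory.Limits.Shapes.WidePullbacks
import Mathlib.Topology.Category.TopCat.Limits.Basic

/-!
The Čech nerve of a map, and its contraction near a point with a local section.
-/

universe u

open CategoryTheory Limits TopologicalSpace Opposite
open Groth.Agent.TopCoh49 Groth.Agent.SpSeq49

namespace Groth.Agent.Desc49

variable {S : TopCat.{u}}

namespace PMap

/-- A partial map from a morphism over `S`, restricted to an open. -/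
def ofHom {Y' Y : Over S} (g : Y'.left ⟶ Y.left) (hg : g ≫ Y.hom = Y'.hom) : PMap Y' Y where
  dom := ⊤
  toFun z _ := g z
  continuous := g.hom.continuous.comp continuous_subtype_val
  over z _ := ConcreteCategory.congr_hom hg z

end PMap

section WP

variable {X : TopCat.{u}} (f : X ⟶ S)

/-- The fibred power with `p + 1` factors, over the base. -/
noncomputable abbrev wp (p : ℕ) : Over S :=
  Over.mk (WidePullback.base (fun _ : Fin (p + 1) => f) :
    widePullback S (fun _ : Fin (p + 1) => X) (fun _ => f) ⟶ S)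

/-- A projection. -/
noncomputable abbrev pr (p : ℕ) (k : Fin (p + 1)) :
    (widePullback S (fun _ : Fin (p + 1) => X) (fun _ => f)) ⟶ X :=
  WidePullback.π (fun _ : Fin (p + 1) => f) k

lemma pr_over (p : ℕ) (k : Fin (p + 1)) (z : (wp f p).left) : f (pr f p k z) = (wp f p).hom z :=
  ConcreteCategory.congr_hom (WidePullback.π_arrow (fun _ : Fin (p + 1) => f) k) z

lemma wp_ext {p : ℕ} {a b : (wp f p).left} (h : ∀ k, pr f p k a = pr f p k b) : a = b := by
  let ca : TopCat.of PUnit.{u + 1} ⟶ (wp f p).left := TopCat.ofHom ⟨fun _ => a, continuous_const⟩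
  let cb : TopCat.of PUnit.{u + 1} ⟶ (wp f p).left := TopCat.ofHom ⟨fun _ => b, continuous_const⟩
  have e : ca = cb := by
    refine WidePullback.hom_ext (fun _ : Fin (p + 1) => f) _ _ (fun k => ?_) ?_
    · ext x
      exact h k
    · ext x
      exact ((pr_over f p 0 a).symm.trans (congrArg f (h 0))).trans (pr_over f p 0 b)
  exact ConcreteCategory.congr_hom e PUnit.unit

/-- A face map of fibred powers. -/
noncomputable def faceHom (p : ℕ) (i : Fin (p + 2)) :
    (wp f (p + 1)).left ⟶ (wp f p).left :=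
  WidePullback.lift (WidePullback.base (fun _ : Fin (p + 1 + 1) => f))
    (fun k => pr f (p + 1) (i.succAbove k)) fun _ => WidePullback.π_arrow _ _

lemma pr_faceHom (p : ℕ) (i : Fin (p + 2)) (k : Fin (p + 1)) (z : (wp f (p + 1)).left) :
    pr f p k (faceHom f p i z) = pr f (p + 1) (i.succAbove k) z :=
  ConcreteCategory.congr_hom (WidePullback.lift_π (f := WidePullback.base _)
    (fs := fun k => pr f (p + 1) (i.succAbove k)) (arrows := fun _ : Fin (p + 1) => f)
    (w := fun _ => WidePullback.π_arrow _ _) k) z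

/-- The face map over the base. -/
noncomputable def faceP (p : ℕ) (i : Fin (p + 2)) : PMap (wp f (p + 1)) (wp f p) :=
  PMap.ofHom (faceHom f p i) (WidePullback.lift_base _ _ _ _)

/-- The Čech nerve as a pre-nerve. -/
noncomputable def cechPre : PreNerve S where
  J _ := PUnit
  Y p _ := wp f p
  face _ _ _ := PUnit.unit
  fmap p i _ := faceP f p i
  total _ _ _ := rfl

/-- The Čech nerve. -/
noncomputable def cech : Nerve S where
  toPreNerve := cechPre f
  simp_eq G p i j hij W x := funext fun a => by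
    show G.res _ _ (G.res _ _ (x _)) = G.res _ _ (G.res _ _ (x _))
    refine (G.res_comp _ _ _ _ _).trans (Eq.trans ?_ (G.res_comp _ _ _ _ _).symm)
    refine G.res_congr _ _ _ _ (fun z hz hz' _ => wp_ext f fun k => ?_) _
    show pr f p k (faceHom f p i (faceHom f (p + 1) j.succ z)) =
      pr f p k (faceHom f p j (faceHom f (p + 1) i.castSucc z))
    refine (pr_faceHom f p i k _).trans ((pr_faceHom f (p + 1) j.succ _ z).trans
      (Eq.trans ?_ ((pr_faceHom f p j k _).trans (pr_faceHom f (p + 1) i.castSucc _ z)).symm))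
    refine congrArg (fun l => pr f (p + 1 + 1) l z) ?_
    obtain ⟨i, hi⟩ := i
    obtain ⟨j, hj⟩ := j
    obtain ⟨k, hk⟩ := k
    replace hij : i ≤ j := hij
    ext
    simp only [Fin.succAbove, Fin.lt_def, Fin.val_castSucc, Fin.val_succ]
    split_ifs <;> simp_all <;> omega

/-- The map into a fibred power underlying `liftP`. -/
noncomputable def liftD {Y' : Over S} {p : ℕ} (D : Opens Y'.left)
    (c : Fin (p + 1) → PMap Y' (Over.mk f)) (hD : ∀ k, D ≤ (c k).dom) : TopCat.of D ⟶ (wp f p).left :=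
  WidePullback.lift (X := TopCat.of D)
    (TopCat.ofHom ⟨fun w => Y'.hom w.1, Y'.hom.hom.continuous.comp continuous_subtype_val⟩)
    (fun k => TopCat.ofHom ⟨fun w : D => (c k).toFun w.1 (hD k w.2),
      (c k).continuous.comp (continuous_subtype_val.subtype_mk fun w : D => hD k w.2)⟩)
    (fun k => by ext w; exact (c k).over w.1 _)

/-- A partial map into a fibred power, from its components. -/
noncomputable def liftP {Y' : Over S} {p : ℕ} (D : Opens Y'.left)
    (c : Fin (p + 1) → PMap Y' (Over.mk f)) (hD : ∀ k, D ≤ (c k).dom) : PMap Y' (wp f p) where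
  dom := D
  toFun z hz := liftD f D c hD ⟨z, hz⟩
  continuous := (liftD f D c hD).hom.continuous
  over z hz := ConcreteCategory.congr_hom (WidePullback.lift_base (X := TopCat.of D) _ _ _ _) ⟨z, hz⟩

lemma pr_liftP {Y' : Over S} {p : ℕ} (D : Opens Y'.left) (c : Fin (p + 1) → PMap Y' (Over.mk f))
    (hD : ∀ k, D ≤ (c k).dom) (k : Fin (p + 1)) (z : Y'.left) (hz : z ∈ (liftP f D c hD).dom) :
    pr f p k ((liftP f D c hD).toFun z hz) = (c k).toFun z (hD k hz) :=
  ConcreteCategory.congr_hom (WidePullback.lift_π (X := TopCat.of D) _ _ _ _ k) ⟨z, hz⟩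

/-- A projection, as a map over the base. -/
noncomputable def prP (p : ℕ) (k : Fin (p + 1)) : PMap (wp f p) (Over.mk f) :=
  PMap.ofHom (pr f p k) (WidePullback.π_arrow _ _)

end WP

/-- A section of `f` on an open `V`, through a subspace `B` of the base. -/
structure LocSec {X : TopCat.{u}} (f : X ⟶ S) (V : Opens S) where
  /-- The subspace. -/
  B : Over S
  emb : Topology.IsEmbedding B.hom
  /-- The section. -/
  σ : PMap B (Over.mk f)
  σ_dom : PreNerve.pre V ≤ σ.dom
  /-- The factorisation through the subspace. -/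
  r : PMap (Over.mk f) B
  r_dom : PreNerve.pre V ≤ r.dom

namespace LocSec

variable {X : TopCat.{u}} {f : X ⟶ S} {V : Opens S} (L : LocSec f V)

/-- The map to the subspace. -/
noncomputable def head (p : ℕ) : PMap (wp f p) L.B := (prP f p 0).comp L.r

lemma head_maps (p : ℕ) {W : Opens S} (hW : W ≤ V) :
    (L.head p).Maps (PreNerve.pre W) (PreNerve.pre W) := fun z hz => by
  have h1 : (Over.mk f).hom (pr f p 0 z) ∈ W := by
    show f (pr f p 0 z) ∈ W
    rw [pr_over]
    exact hz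
  have h : z ∈ (L.head p).dom := ⟨trivial, L.r_dom (hW h1)⟩
  refine ⟨h, ?_⟩
  show L.B.hom ((L.head p).toFun z h) ∈ W
  rw [(L.head p).over]
  exact hz

/-- The degeneracy prepending the section. -/
noncomputable def cons (p : ℕ) : PMap (wp f p) (wp f (p + 1)) :=
  liftP f (((L.head p).comp L.σ).dom) (Fin.cons ((L.head p).comp L.σ) fun k => prP f p k)
    (Fin.cases le_rfl fun _ => le_top)

lemma cons_maps (p : ℕ) {W : Opens S} (hW : W ≤ V) :
    (L.cons p).Maps (PreNerve.pre W) (PreNerve.pre W) := fun z hz => by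
  obtain ⟨h1, h2⟩ := L.head_maps p hW z hz
  have h : z ∈ (L.cons p).dom := show z ∈ ((L.head p).comp L.σ).dom from PMap.mem_pre _ h1 (L.σ_dom (hW h2))
  refine ⟨h, ?_⟩
  show (wp f (p + 1)).hom ((L.cons p).toFun z h) ∈ W
  rw [(L.cons p).over]
  exact hz

/-- The section, into the zeroth term. -/
noncomputable def sec : PMap L.B (wp f 0) :=
  liftP f L.σ.dom (fun _ => L.σ) (fun _ => le_rfl)

lemma sec_maps {W : Opens S} (hW : W ≤ V) : L.sec.Maps (PreNerve.pre W) (PreNerve.pre W) := fun z hz => by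
  have h : z ∈ L.sec.dom := show z ∈ L.σ.dom from L.σ_dom (hW hz)
  refine ⟨h, ?_⟩
  show (wp f 0).hom (L.sec.toFun z h) ∈ W
  rw [L.sec.over]
  exact hz

lemma pr_cons_zero (p : ℕ) (z : (wp f p).left) (hz : z ∈ (L.cons p).dom) :
    pr f (p + 1) 0 ((L.cons p).toFun z hz) = L.σ.toFun ((L.head p).toFun z (show z ∈ ((L.head p).comp L.σ).dom from hz).1)
      (show z ∈ ((L.head p).comp L.σ).dom from hz).2 :=
  pr_liftP f _ _ _ 0 z hz

lemma pr_cons_succ (p : ℕ) (k : Fin (p + 1)) (z : (wp f p).left) (hz : z ∈ (L.cons p).dom) :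
    pr f (p + 1) k.succ ((L.cons p).toFun z hz) = pr f p k z :=
  pr_liftP f _ _ _ k.succ z hz

variable (G : Fam S) {W : Opens S} (hW : W ≤ V)

/-- The contracting homotopy. -/
noncomputable def hc (p : ℕ) : (cech f).Cx G (p + 1) W →+ (cech f).Cx G p W where
  toFun x := fun _ => G.res (L.cons p) (L.cons_maps p hW) (x PUnit.unit)
  map_zero' := funext fun _ => map_zero _
  map_add' _ _ := funext fun _ => map_add _ _ _

lemma hc_zero (p : ℕ) (x : (cech f).Cx G p W) :
    L.hc G hW p ((cech f).δi G p 0 W x) = x := funext fun a => by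
  refine (G.res_comp _ _ _ _ _).trans ((G.res_congr _ (PMap.id _) _ (PMap.id_maps le_rfl) (fun z hz hz' hzW => wp_ext f fun k => ?_) _).trans
    ((G.res_id le_rfl _).trans (rs_self _ _ _)))
  show pr f p k (faceHom f p 0 ((L.cons p).toFun z _)) = pr f p k z
  rw [pr_faceHom, Fin.zero_succAbove, pr_cons_succ]

include hW in
lemma hc_succ (p : ℕ) (i : Fin (p + 2)) (x : (cech f).Cx G (p + 1) W) :
    L.hc G hW (p + 1) ((cech f).δi G (p + 1) i.succ W x) = (cech f).δi G p i W (L.hc G hW p x) :=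
  funext fun a => by
  show G.res _ _ (G.res _ _ (x PUnit.unit)) = G.res _ _ (G.res _ _ (x PUnit.unit))
  refine (G.res_comp _ _ _ _ _).trans (Eq.trans ?_ (G.res_comp _ _ _ _ _).symm)
  refine G.res_congr _ _ _ _ (fun z hz hz' hzW => wp_ext f fun k => ?_) _
  show pr f (p + 1) k (faceHom f (p + 1) i.succ ((L.cons (p + 1)).toFun z _)) =
    pr f (p + 1) k ((L.cons p).toFun (faceHom f p i z) _)
  refine (pr_faceHom f (p + 1) i.succ k _).trans ?_
  cases k using Fin.cases with
  | zero =>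
    have e0 : i.succ.succAbove (0 : Fin (p + 2)) = 0 := Fin.succ_succAbove_zero i
    rw [e0]
    refine (L.pr_cons_zero (p + 1) z _).trans (Eq.trans ?_ (L.pr_cons_zero p _ _).symm)
    have hσ : ∀ {u v : L.B.left} (hu : u ∈ L.σ.dom) (hv : v ∈ L.σ.dom), u = v →
        L.σ.toFun u hu = L.σ.toFun v hv := by
      rintro u _ hu hv rfl
      rfl
    refine hσ _ _ (L.emb.injective ?_)
    exact ((L.head (p + 1)).over _ _).trans (((L.head p).over _ _).trans
      (ConcreteCategory.congr_hom (WidePullback.lift_base _ _ _ _) z)).symm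
  | succ k =>
    rw [Fin.succ_succAbove_succ]
    exact (L.pr_cons_succ (p + 1) _ z _).trans
      ((pr_faceHom f p i k z).symm.trans (L.pr_cons_succ p k _ _).symm)

include hW in
lemma hc_one (x : (cech f).Cx G 0 W) :
    L.hc G hW 0 ((cech f).δi G 0 1 W x) =
      fun _ => G.res (L.head 0) (L.head_maps 0 hW) (G.res L.sec (L.sec_maps hW) (x PUnit.unit)) :=
  funext fun a => by
  show G.res _ _ (G.res _ _ (x PUnit.unit)) = G.res _ _ (G.res _ _ (x PUnit.unit))
  refine (G.res_comp _ _ _ _ _).trans (Eq.trans ?_ (G.res_comp _ _ _ _ _).symm)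
  refine G.res_congr _ _ _ _ (fun z hz hz' hzW => wp_ext f fun k => ?_) _
  show pr f 0 k (faceHom f 0 1 ((L.cons 0).toFun z _)) = pr f 0 k (L.sec.toFun ((L.head 0).toFun z _) _)
  rw [pr_faceHom, Fin.eq_zero k, show (1 : Fin 2).succAbove (0 : Fin 1) = 0 from rfl, pr_cons_zero]
  exact (pr_liftP f L.σ.dom (fun _ => L.σ) (fun _ => le_rfl) 0 _ _).symm

lemma hc_δs (p : ℕ) (x : (cech f).Cx G (p + 1) W) :
    x = L.hc G hW (p + 1) ((cech f).δs G (p + 1) W x) + (cech f).δs G p W (L.hc G hW p x) := by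
  rw [PreNerve.δs_apply, PreNerve.δs_apply, map_sum, Fin.sum_univ_succ]
  simp only [Fin.val_zero, pow_zero, one_smul, Fin.val_succ, pow_succ, mul_neg, mul_one, neg_smul, map_neg,
    map_zsmul, L.hc_zero G hW, L.hc_succ G hW, Finset.sum_neg_distrib]
  abel

lemma hc_δs_zero (x : (cech f).Cx G 0 W) :
    x = L.hc G hW 0 ((cech f).δs G 0 W x) +
      fun _ => G.res (L.head 0) (L.head_maps 0 hW) (G.res L.sec (L.sec_maps hW) (x PUnit.unit)) := by
  rw [PreNerve.δs_apply, map_sum, Fin.sum_univ_two]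
  simp only [Fin.val_zero, pow_zero, one_smul, Fin.val_one, pow_one, neg_smul, map_neg,
    L.hc_zero G hW, L.hc_one G hW]
  abel

end LocSec

/-- A family supported at one position is a family of cycles if its entry is. -/
lemma v_single {M : DC.{u}} (p q : ℕ) (x : M.Φ p q) (hx : M.v p q x = 0) (a b : ℕ) :
    M.v a b (M.single p q x a b) = 0 := by
  rcases eq_or_ne a p with rfl | ha
  · rcases eq_or_ne b q with rfl | hb
    · rw [M.single_same]
      exact hx
    · simp [DC.single, hb]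
  · simp [DC.single, ha]

lemma rW_rW (N : Nerve S) (G : Fam S) (p : ℕ) {A B C : Opens S} (h₁ : B ≤ A) (h₂ : C ≤ B) (x : N.Cx G p A) :
    N.rW G p h₂ (N.rW G p h₁ x) = N.rW G p (h₂.trans h₁) x := funext fun j =>
  rs_rs (G.sh (N.Y p j)).obj ((Opens.map (N.Y p j).hom).monotone h₁)
    ((Opens.map (N.Y p j).hom).monotone h₂) (x j)

/-- Local exactness at a point near which the map has a section through a subspace containing it. -/
theorem LocSec.critL_at {X : TopCat.{u}} {f : X ⟶ S} {V : Opens S} (L : LocSec f V) (F : CohTop.Ab S)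
    {s : S} (hsV : s ∈ V) (b : L.B.left) (hb : L.B.hom b = s) (W : Opens S) (hs : s ∈ W)
    (p q : ℕ) (x : (cech f).Cx (Nerve.Aq F q) p W) (hv : ((cech f).dc F W).v p q x = 0)
    (w : ((cech f).dc F W).Fam) (hw : ((cech f).dc F W).vIn w (p + 1) q = ((cech f).dc F W).h p q x) :
    ∃ (W' : Opens S) (h : W' ≤ W) (z y : ((cech f).dc F W').Fam) (t : F.obj.obj (op W')), s ∈ W' ∧
      (∀ a b, ((cech f).dc F W').v a b (z a b) = 0) ∧
      ((cech f).rW (Nerve.Aq F q) p h x : ((cech f).dc F W').Φ p q) =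
        ((cech f).dc F W').hIn z p q + ((cech f).dc F W').vIn y p q + (cech f).aug F W' t p q := by
  let N := cech f
  have hW₁ : W ⊓ V ≤ V := inf_le_right
  have hle : W ⊓ V ≤ W := inf_le_left
  let x' := N.rW (Nerve.Aq F q) p hle x
  have hv' : N.app ((mdl F).dA (q + 1)) p (W ⊓ V) x' = 0 :=
    (N.app_rW _ p hle x).trans ((congrArg (N.rW (Nerve.Aq F (q + 1)) p hle) hv).trans (map_zero _))
  let y : (N.dc F (W ⊓ V)).Fam := fun a c => L.hc (Nerve.Aq F c) hW₁ a (N.rM F hle w (a + 1) c)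
  have hy : L.hc (Nerve.Aq F q) hW₁ p (N.δs (Nerve.Aq F q) p (W ⊓ V) x') = (N.dc F (W ⊓ V)).vIn y p q := by
    rw [← N.rW_δs]
    refine (congrArg (fun u => L.hc (Nerve.Aq F q) hW₁ p (N.rW (Nerve.Aq F q) (p + 1) hle u)) hw.symm).trans ?_
    rcases q with _ | q
    · exact (congrArg _ (map_zero _)).trans (map_zero _)
    · refine (congrArg _ (N.app_rW ((mdl F).dA (q + 1)) (p + 1) hle _).symm).trans ?_
      exact funext fun _ => (((mdl F).dA (q + 1)).natural (L.cons p) (L.cons_maps p hW₁) _).symm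
  rcases p with _ | p
  · let m : ((Nerve.Aq F q).sh L.B).obj.obj (op (PreNerve.pre (W ⊓ V))) :=
      (Nerve.Aq F q).res L.sec (L.sec_maps hW₁) (x' PUnit.unit)
    have hm : ((mdl F).dA (q + 1)).app L.B _ m = 0 := by
      refine (((mdl F).dA (q + 1)).natural _ _ _).trans ?_
      exact (congrArg _ (congrFun hv' PUnit.unit)).trans (map_zero _)
    obtain ⟨U, hU, n, hbU, hn⟩ := (mdl F).exists_near_preimage q m hm b
      (show L.B.hom b ∈ W ⊓ V from hb ▸ ⟨hs, hsV⟩)
    obtain ⟨O, hO, hOU⟩ := L.emb.isInducing.isOpen_iff.mp U.isOpen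
    rcases q with _ | q
    · obtain ⟨U', hU', W₀, t, hbU', ht⟩ := (show mdlSec F L.B U from n).2 b hbU
      obtain ⟨O', hO', hOU'⟩ := L.emb.isInducing.isOpen_iff.mp U'.isOpen
      obtain ⟨hsW₀, -⟩ := ht b hbU' s hb
      let W' : Opens S := W ⊓ V ⊓ ⟨O', hO'⟩ ⊓ W₀
      have hsO : s ∈ O' := hb ▸ (hOU'.symm.le hbU' : b ∈ L.B.hom ⁻¹' O')
      have hW' : W' ≤ W ⊓ V := inf_le_left.trans inf_le_left
      have hpre : PreNerve.pre (Y := L.B) W' ≤ U' := fun z hz => hOU'.le hz.1.2
      refine ⟨W', hW'.trans hle, 0, N.rM F hW' y, rs F.obj inf_le_right t, ⟨⟨⟨hs, hsV⟩, hsO⟩, hsW₀⟩,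
        fun _ _ => map_zero _, ?_⟩
      refine Eq.trans ?_ (congrArg (· + N.aug F W' (rs F.obj inf_le_right t) 0 0)
        (((zero_add _).trans ((N.rM_vIn F hW' y 0 0).symm.trans
          (congrArg (N.rW (Nerve.Aq F 0) 0 hW') hy.symm))).symm))
      have e := congrArg (N.rW (Nerve.Aq F 0) 0 hW') (L.hc_δs_zero (Nerve.Aq F 0) hW₁ x')
      replace e := e.trans (map_add (N.rW (Nerve.Aq F 0) 0 hW') _ _)
      refine (rW_rW N (Nerve.Aq F _) 0 hle hW' x).symm.trans (e.trans (congrArg (_ + ·) (funext fun j => ?_)))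
      have hn' : rs ((Nerve.Aq F 0).sh L.B).obj ((Opens.map L.B.hom).monotone hW') m =
          ((mdl F).dA 0).app L.B _ (mdlOf F L.B W' (rs F.obj inf_le_right t)) := by
        refine ((rs_rs _ hU (hpre.trans hU') m).symm.trans (congrArg _ hn.symm)).trans ?_
        refine (((mdl F).dA 0).natural_rs (hpre.trans hU') n).symm.trans (congrArg _ ?_)
        refine Subtype.ext (funext fun ⟨z, hz⟩ => funext fun ⟨x₀, hx₀⟩ => ?_)
        obtain ⟨a, ea⟩ := ht z (hpre hz) x₀ hx₀
        exact ea.trans (germ_rs F inf_le_right x₀ (hx₀ ▸ hz) t).symm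
      have hmaps : (L.head 0).Maps (PreNerve.pre W') (PreNerve.pre (W ⊓ V)) := fun z hz =>
        ⟨(L.head_maps 0 (hW'.trans hW₁) z hz).1, hW' (L.head_maps 0 (hW'.trans hW₁) z hz).2⟩
      refine ((Nerve.Aq F 0).rs_res (L.head 0)
        ((Opens.map (wp f 0).hom).monotone hW') (L.head_maps 0 hW₁) hmaps m).trans
        (((Nerve.Aq F 0).res_rs (L.head 0) ((Opens.map L.B.hom).monotone hW') hmaps
          (L.head_maps 0 (hW'.trans hW₁)) m).symm.trans ?_)
      refine (congrArg _ hn').trans ?_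
      exact (((mdl F).dA 0).natural _ _ _).symm
    · let W' : Opens S := W ⊓ V ⊓ ⟨O, hO⟩
      have hsO : s ∈ O := hb ▸ (hOU.symm.le hbU : b ∈ L.B.hom ⁻¹' O)
      have hW' : W' ≤ W ⊓ V := inf_le_left
      have hpre : PreNerve.pre (Y := L.B) W' ≤ U := fun z hz => hOU.le hz.2
      let y₀ : (N.dc F W').Fam := (N.dc F W').single 0 q (fun j => (Nerve.Aq F q).res (L.head 0)
        (L.head_maps 0 (hW'.trans hW₁)) (rs _ hpre n))
      refine ⟨W', hW'.trans hle, 0, N.rM F hW' y + y₀, 0, ⟨⟨hs, hsV⟩, hsO⟩, fun _ _ => map_zero _, ?_⟩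
      refine Eq.trans ?_ ((add_zero ((0 : (N.dc F W').Φ 0 (q + 1)) +
        (N.dc F W').v 0 q (N.rM F hW' y 0 q + y₀ 0 q))).symm.trans
          (congrArg (_ + ·) (congrFun (congrFun (map_zero (N.aug F W')) 0) (q + 1)).symm))
      refine Eq.trans ?_ ((zero_add _).trans (map_add ((N.dc F W').v 0 q) _ _)).symm
      have e := congrArg (N.rW (Nerve.Aq F (q + 1)) 0 hW') (L.hc_δs_zero (Nerve.Aq F (q + 1)) hW₁ x')
      replace e := e.trans (map_add (N.rW (Nerve.Aq F (q + 1)) 0 hW') _ _)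
      refine (rW_rW N (Nerve.Aq F _) 0 hle hW' x).symm.trans (e.trans ?_)
      refine congrArg₂ (· + ·) ((congrArg (N.rW (Nerve.Aq F (q + 1)) 0 hW') hy).trans (N.rM_vIn F hW' y 0 (q + 1))) ?_
      rw [show y₀ 0 q = _ from (N.dc F W').single_same 0 q _]
      funext j
      have hmaps : (L.head 0).Maps (PreNerve.pre W') (PreNerve.pre (W ⊓ V)) := fun z hz =>
        ⟨(L.head_maps 0 (hW'.trans hW₁) z hz).1, hW' (L.head_maps 0 (hW'.trans hW₁) z hz).2⟩
      refine ((Nerve.Aq F (q + 1)).rs_res (L.head 0)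
        ((Opens.map (wp f 0).hom).monotone hW') (L.head_maps 0 hW₁) hmaps m).trans
        (((Nerve.Aq F (q + 1)).res_rs (L.head 0) ((Opens.map L.B.hom).monotone hW') hmaps
          (L.head_maps 0 (hW'.trans hW₁)) m).symm.trans ?_)
      refine (congrArg _ ?_).trans (((mdl F).dA (q + 1)).natural _ _ _).symm
      exact ((rs_rs _ hU hpre m).symm.trans (congrArg _ hn.symm)).trans (((mdl F).dA (q + 1)).natural_rs hpre n).symm
  · let z₀ : N.Cx (Nerve.Aq F q) p (W ⊓ V) := L.hc (Nerve.Aq F q) hW₁ p x'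
    have hz₀ : (N.dc F (W ⊓ V)).v p q z₀ = 0 := funext fun a =>
      (((mdl F).dA (q + 1)).natural (L.cons p) (L.cons_maps p hW₁) _).trans
        ((congrArg _ (congrFun hv' PUnit.unit)).trans (map_zero _))
    refine ⟨W ⊓ V, hle, (N.dc F (W ⊓ V)).single p q z₀, y, 0, ⟨hs, hsV⟩, v_single (M := (cech f).dc F (W ⊓ V)) p q z₀ hz₀, ?_⟩
    refine Eq.trans ?_ ((add_zero _).symm.trans
      (congrArg (fun u : (N.dc F (W ⊓ V)).Φ (p + 1) q => _ + u) (congrFun (congrFun (map_zero (N.aug F (W ⊓ V))) (p + 1)) q).symm))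
    refine Eq.trans ?_ (congrArg₂ (fun u v : (N.dc F (W ⊓ V)).Φ (p + 1) q => u + v)
      (congrArg (N.δs (Nerve.Aq F q) p (W ⊓ V)) ((N.dc F (W ⊓ V)).single_same p q z₀).symm) hy)
    exact (L.hc_δs (Nerve.Aq F q) hW₁ p x').trans (add_comm _ _)

/-- The augmentation is locally injective for a jointly surjective system. -/
theorem critI_of_surjective (N : Nerve S) (F : CohTop.Ab S)
    (h : ∀ s : S, ∃ (j : N.J 0) (z : (N.Y 0 j).left), (N.Y 0 j).hom z = s) : N.CritI F := by
  intro W s hs t ht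
  obtain ⟨j, z, hz⟩ := h s
  have e : mdlOf F (N.Y 0 j) W t = 0 :=
    (mdl F).eq_zero_of_dA_zero (Y := N.Y 0 j) (U := PreNerve.pre W) (mdlOf F (N.Y 0 j) W t)
      (congrFun (congrFun (congrFun ht 0) 0) j)
  have e' : germ F s hs t = 0 :=
    congrFun (congrFun (congrArg Subtype.val e) ⟨z, show (N.Y 0 j).hom z ∈ W from hz ▸ hs⟩) ⟨s, hz⟩
  obtain ⟨V, hV, i₁, i₂, h'⟩ := TopCat.Presheaf.germ_eq F.obj s hs hs t 0 (e'.trans (map_zero _).symm)
  exact ⟨V, leOfHom i₁, hV, h'.trans (map_zero _)⟩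

end Groth.Agent.Desc49

namespace Groth.Agent.Desc49

variable {S : TopCat.{u}}

/-- A local section of `f` on an open of the base. -/
noncomputable def LocSec.ofSection {X : TopCat.{u}} {f : X ⟶ S} (V : Opens S)
    (σ : PMap (Over.mk (𝟙 S)) (Over.mk f)) (hσ : PreNerve.pre V ≤ σ.dom) : LocSec f V where
  B := Over.mk (𝟙 S)
  emb := Topology.IsEmbedding.id
  σ := σ
  σ_dom := hσ
  r := PMap.ofHom f (Category.comp_id f)
  r_dom := le_top

/-- The descent spectral sequence of a map with local sections. -/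
theorem exists_descent_cech {X : TopCat.{u}} (f : X ⟶ S) (F : CohTop.Ab S) (hL : (cech f).CritL F)
    (hsurj : Function.Surjective f) :
    ∃ (E : CohomologicalSpectralSequence AddCommGrpCat.{u} 1)
      (a : SpSeq.Abutment E (fun n : ℤ =>
        if 0 ≤ n then AddCommGrpCat.of (CohTop.H F n.toNat) else AddCommGrpCat.of PUnit.{u + 1})),
      (∀ n, a.IsFinite n) ∧ SpSeq.IsBounded E ∧
      ∀ p q : ℤ, Nonempty ((E.page 1 le_rfl).X (p, q) ≅
        (if 0 ≤ p ∧ 0 ≤ q then
          AddCommGrpCat.of (CohTop.H ((CohTop.pull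
            (WidePullback.base (fun _ : Fin (p.toNat + 1) => f) :
              widePullback S (fun _ : Fin (p.toNat + 1) => X) (fun _ => f) ⟶ S)).obj F) q.toNat)
         else AddCommGrpCat.of PUnit.{u + 1})) := by
  refine (cech f).exists_descent F hL (critI_of_surjective _ F fun s => ?_)
    (fun pq => if 0 ≤ pq.1 ∧ 0 ≤ pq.2 then
      AddCommGrpCat.of (CohTop.H ((CohTop.pull (wp f pq.1.toNat).hom).obj F) pq.2.toNat)
      else AddCommGrpCat.of PUnit.{u + 1}) (fun p q => ?_) (fun p q h => ?_)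
  · obtain ⟨x, hx⟩ := hsurj s
    exact ⟨PUnit.unit, (liftP f ⊤ (fun _ => PMap.ofHom (TopCat.ofHom ⟨fun _ : PUnit.{u + 1} => x, continuous_const⟩)
      (show _ = (Over.mk (TopCat.ofHom ⟨fun _ : PUnit.{u + 1} => s, continuous_const⟩ :
        TopCat.of PUnit.{u + 1} ⟶ S)).hom by ext u; exact hx)) (fun _ => le_rfl)).toFun PUnit.unit trivial,
      (liftP f _ _ _).over _ _⟩
  · exact ⟨(AddEquiv.piUnique (fun _ : PUnit.{u + 1} => CohTop.H ((CohTop.pull (wp f p).hom).obj F) q)).toAddCommGrpIso ≪≫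
      eqToIso (if_pos (show (0 : ℤ) ≤ p ∧ (0 : ℤ) ≤ q from ⟨Int.natCast_nonneg p, Int.natCast_nonneg q⟩)).symm⟩
  · rw [if_neg (show ¬ (0 ≤ p ∧ 0 ≤ q) by omega)]
    exact AddCommGrpCat.isZero_of_subsingleton _

end Groth.Agent.Desc49
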