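import Groth.Agent.Desc49.CechNerve

/-!
Cohomological descent along a locally finite closed covering.
-/

universe u

open CategoryTheory Limits TopologicalSpace Opposite
open Groth.Agent.TopCoh49 Groth.Agent.SpSeq49
open scoped Topology

namespace Groth.Agent.Desc49

variable {X : TopCat.{u}} {I : Type u} (U : I → Set X)

/-- The inclusion of a finite intersection. -/
noncomputable abbrev interObj (p : ℕ) (σ : Fin (p + 1) → I) : Over X :=
  Over.mk (TopCat.ofHom ⟨((↑) : (⋂ k, U (σ k) : Set X) → X), continuous_subtype_val⟩ :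
    TopCat.of (⋂ k, U (σ k) : Set X) ⟶ X)

/-- The nerve of a covering, as a pre-nerve. -/
noncomputable def coverPre : PreNerve X where
  J p := Fin (p + 1) → I
  Y p σ := interObj U p σ
  face _ i σ := fun k => σ (i.succAbove k)
  fmap p i σ := PMap.ofHom (TopCat.ofHom ⟨fun z => ⟨z.1, Set.mem_iInter.mpr fun k => Set.mem_iInter.mp z.2 (i.succAbove k)⟩,
    continuous_subtype_val.subtype_mk _⟩) rfl
  total _ _ _ := rfl

lemma res_heq (G : Fam X) (p : ℕ) {σ σ' : Fin (p + 1) → I} (e : σ = σ') {Y : Over X}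
    (f : PMap Y (interObj U p σ)) (f' : PMap Y (interObj U p σ')) (W : Opens X) {D : Opens Y.left}
    (hf : f.Maps D (PreNerve.pre W)) (hf' : f'.Maps D (PreNerve.pre W)) (x : (coverPre U).Cx G p W) :
    G.res f hf (x σ) = G.res f' hf' (x σ') := by
  subst e
  refine G.res_congr f f' hf hf' (fun z hz hz' _ => Subtype.ext ?_) _
  exact (f.over z hz).trans (f'.over z hz').symm

/-- The nerve of a covering. -/
noncomputable def cover : Nerve X where
  toPreNerve := coverPre U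
  simp_eq G p i j hij W x := funext fun σ => by
    refine (G.res_comp _ _ _ _ _).trans (Eq.trans ?_ (G.res_comp _ _ _ _ _).symm)
    refine res_heq U G p (funext fun k => ?_) _ _ W _ _ x
    show σ (j.succ.succAbove (i.succAbove k)) = σ (i.castSucc.succAbove (j.succAbove k))
    refine congrArg σ ?_
    obtain ⟨i, hi⟩ := i
    obtain ⟨j, hj⟩ := j
    obtain ⟨k, hk⟩ := k
    replace hij : i ≤ j := hij
    ext
    simp only [Fin.succAbove, Fin.lt_def, Fin.val_castSucc, Fin.val_succ]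
    split_ifs <;> simp_all <;> omega

variable (F : CohTop.Ab X)

/-- The degree-zero cochain induced by sections of `F`. -/
noncomputable def constCx (p : ℕ) (W : Opens X) :
    ((Fin (p + 1) → I) → F.obj.obj (op W)) →+ (cover U).Cx (Nerve.Aq F 0) p W where
  toFun t σ := ((mdl F).dA 0).app _ _ (mdlOf F (interObj U p σ) W (t σ))
  map_zero' := funext fun σ => (congrArg _ (map_zero (mdlOf F (interObj U p σ) W))).trans (map_zero _)
  map_add' a b := funext fun σ =>
    (congrArg _ (map_add (mdlOf F (interObj U p σ) W) (a σ) (b σ))).trans (map_add _ _ _)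

/-- The alternating face sum on cochains of sections. -/
noncomputable def dt (p : ℕ) (W : Opens X) :
    ((Fin (p + 1) → I) → F.obj.obj (op W)) →+ ((Fin (p + 1 + 1) → I) → F.obj.obj (op W)) where
  toFun t σ := ∑ i : Fin (p + 2), ((-1) ^ (i : ℕ) : ℤ) • t fun k => σ (i.succAbove k)
  map_zero' := funext fun σ => by simp
  map_add' a b := funext fun σ => by simp [Finset.sum_add_distrib]

lemma δi_constCx (p : ℕ) (i : Fin (p + 2)) (W : Opens X) (t : (Fin (p + 1) → I) → F.obj.obj (op W)) :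
    (cover U).δi (Nerve.Aq F 0) p i W (constCx U F p W t) =
      constCx U F (p + 1) W (fun σ => t fun k => σ (i.succAbove k)) := funext fun σ =>
  (((mdl F).dA 0).natural ((cover U).fmap p i σ) ((cover U).fmap_maps p i σ W) _).symm

lemma δs_constCx (p : ℕ) (W : Opens X) (t : (Fin (p + 1) → I) → F.obj.obj (op W)) :
    (cover U).δs (Nerve.Aq F 0) p W (constCx U F p W t) = constCx U F (p + 1) W (dt F p W t) := by
  rw [PreNerve.δs_apply]
  simp only [δi_constCx, ← map_zsmul, ← map_sum]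
  congr 1
  funext σ
  simp [dt]

lemma rW_constCx (p : ℕ) {W W' : Opens X} (h : W' ≤ W) (t : (Fin (p + 1) → I) → F.obj.obj (op W)) :
    (cover U).rW (Nerve.Aq F 0) p h (constCx U F p W t) =
      constCx U F p W' (fun σ => rs F.obj h (t σ)) := funext fun σ => by
  refine (((mdl F).dA 0).natural_rs ((Opens.map (interObj U p σ).hom).monotone h) _).symm.trans (congrArg _ ?_)
  refine Subtype.ext (funext fun ⟨z, hz⟩ => funext fun ⟨x, hx⟩ => ?_)
  exact (germ_rs F h x (hx ▸ hz) _).symm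

lemma sections_eq_of_empty {Z : TopCat.{u}} (G : CohTop.Ab Z) {D : Opens Z} (hD : ∀ z, z ∉ D)
    (a b : G.obj.obj (op D)) : a = b :=
  eq_of_germ_eq G fun z hz => absurd hz (hD z)

/-- `W` meets only the members of the covering containing `s`. -/
def Good (s : X) (W : Opens X) : Prop := ∀ i, ∀ z ∈ W, z ∈ U i → s ∈ U i

lemma Good.mono {s : X} {W W' : Opens X} (h : Good U s W) (hle : W' ≤ W) : Good U s W' :=
  fun i z hz hzU => h i z (hle hz) hzU

lemma exists_good (hU : ∀ i, IsClosed (U i)) (hlf : LocallyFinite U) (s : X) :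
    ∃ W : Opens X, s ∈ W ∧ Good U s W ∧ {i | s ∈ U i}.Finite := by
  obtain ⟨N, hN, hfin⟩ := hlf s
  obtain ⟨O, hON, hO, hsO⟩ := mem_nhds_iff.mp hN
  let T := {i | (U i ∩ N).Nonempty ∧ s ∉ U i}
  have hT : T.Finite := hfin.subset fun i hi => hi.1
  refine ⟨⟨O ∩ (⋃ i ∈ T, U i)ᶜ, hO.inter (hT.isClosed_biUnion fun i _ => hU i).isOpen_compl⟩,
    ⟨hsO, by simpa [T] using fun i (_ : (U i ∩ N).Nonempty) (h : s ∉ U i) => h⟩, ?_, ?_⟩
  · intro i z hz hzU
    by_contra hs
    exact hz.2 (Set.mem_biUnion (show i ∈ T from ⟨⟨z, hzU, hON hz.1⟩, hs⟩) hzU)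
  · exact hfin.subset fun i hi => ⟨s, hi, hON hsO⟩

lemma not_mem_pre {s : X} {W : Opens X} (hW : Good U s W) {p : ℕ} {σ : Fin (p + 1) → I}
    (hσ : ¬ ∀ k, s ∈ U (σ k)) (z : (interObj U p σ).left) : z ∉ PreNerve.pre (Y := interObj U p σ) W :=
  fun hz => hσ fun k => hW (σ k) z.1 hz (Set.mem_iInter.mp z.2 k)

/-- Common shrinking over the finitely many tuples at `s`. -/
lemma exists_common {s : X} (hfin : {i | s ∈ U i}.Finite) (p : ℕ) {W : Opens X} (hs : s ∈ W)
    (P : (Fin (p + 1) → I) → Opens X → Prop) (hP : ∀ σ W' W'', W'' ≤ W' → P σ W' → P σ W'')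
    (h : ∀ σ, (∀ k, s ∈ U (σ k)) → ∃ W' : Opens X, s ∈ W' ∧ P σ W') :
    ∃ W' : Opens X, W' ≤ W ∧ s ∈ W' ∧ ∀ σ, (∀ k, s ∈ U (σ k)) → P σ W' := by
  have : Finite {i // s ∈ U i} := hfin.to_subtype
  let K := Fin (p + 1) → {i // s ∈ U i}
  choose V hsV hV using fun κ : K => h (fun k => (κ k).1) fun k => (κ k).2
  let O : Opens X := ⟨⋂ κ : K, (V κ : Set X), isOpen_iInter_of_finite fun κ => (V κ).isOpen⟩
  refine ⟨W ⊓ O, inf_le_left, ⟨hs, Set.mem_iInter.mpr hsV⟩, fun σ hσ => ?_⟩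
  exact hP σ (V fun k => ⟨σ k, hσ k⟩) _ (fun z hz => Set.mem_iInter.mp hz.2 _) (hV fun k => ⟨σ k, hσ k⟩)

/-- The germ of `t` at `s` vanishes if its image on an intersection through `s` does. -/
lemma germ_eq_zero_of_constCx {s : X} {W : Opens X} (hs : s ∈ W) {p : ℕ}
    (t : (Fin (p + 1) → I) → F.obj.obj (op W)) (h : constCx U F p W t = 0) (σ : Fin (p + 1) → I)
    (hσ : ∀ k, s ∈ U (σ k)) : germ F s hs (t σ) = 0 := by
  have e : mdlOf F (interObj U p σ) W (t σ) = 0 :=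
    (mdl F).eq_zero_of_dA_zero (Y := interObj U p σ) (U := PreNerve.pre W) (mdlOf F (interObj U p σ) W (t σ))
      (congrFun h σ)
  exact congrFun (congrFun (congrArg Subtype.val e) ⟨⟨s, Set.mem_iInter.mpr hσ⟩, hs⟩) ⟨s, rfl⟩

/-- Near `s`, a cochain of sections with vanishing germs vanishes. -/
lemma exists_constCx_eq_zero {s : X} (hfin : {i | s ∈ U i}.Finite) {W : Opens X} (hs : s ∈ W)
    (hW : Good U s W) {p : ℕ} (t : (Fin (p + 1) → I) → F.obj.obj (op W))
    (ht : ∀ σ, (∀ k, s ∈ U (σ k)) → germ F s hs (t σ) = 0) :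
    ∃ (W' : Opens X) (h : W' ≤ W), s ∈ W' ∧ constCx U F p W' (fun σ => rs F.obj h (t σ)) = 0 := by
  obtain ⟨W', hW', hs', h⟩ := exists_common U hfin p hs
    (fun σ W' => rs F.obj (inf_le_right : W' ⊓ W ≤ W) (t σ) = 0)
    (fun σ W' W'' hle h => by
      rw [← rs_rs F.obj (inf_le_right : W' ⊓ W ≤ W) (inf_le_inf_right W hle) (t σ), h, map_zero])
    (fun σ hσ => by
      obtain ⟨V, hV, i₁, i₂, e⟩ := TopCat.Presheaf.germ_eq F.obj s hs hs (t σ) 0
        ((ht σ hσ).trans (map_zero _).symm)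
      refine ⟨V, hV, ?_⟩
      rw [← rs_rs F.obj (leOfHom i₁) inf_le_left (t σ)]
      exact (congrArg _ (e.trans (map_zero _))).trans (map_zero _))
  refine ⟨W', hW', hs', funext fun σ => ?_⟩
  by_cases hσ : ∀ k, s ∈ U (σ k)
  · show ((mdl F).dA 0).app _ _ (mdlOf F _ W' (rs F.obj hW' (t σ))) = _
    rw [← rs_rs F.obj (inf_le_right : W' ⊓ W ≤ W) (le_inf le_rfl hW') (t σ), h σ hσ, map_zero, map_zero]
    exact map_zero _
  · exact sections_eq_of_empty _ (not_mem_pre U (hW.mono U hW') hσ) _ _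

lemma pre_le {p : ℕ} (σ : Fin (p + 1) → I) {s : X} (hσ : ∀ k, s ∈ U (σ k)) {D : Opens (interObj U p σ).left}
    (hD : (⟨s, Set.mem_iInter.mpr hσ⟩ : (interObj U p σ).left) ∈ D) :
    ∃ O : Opens X, s ∈ O ∧ PreNerve.pre (Y := interObj U p σ) O ≤ D := by
  obtain ⟨O, hO, hOD⟩ := isOpen_induced_iff.mp D.isOpen
  exact ⟨⟨O, hO⟩, hOD.symm.le hD, fun z hz => hOD.le hz⟩

/-- Local exactness for a locally finite closed covering, in positive vertical degree. -/
lemma critL_succ (hU : ∀ i, IsClosed (U i)) (hlf : LocallyFinite U) (W : Opens X) (s : X) (hs : s ∈ W)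
    (p q : ℕ) (x : (cover U).Cx (Nerve.Aq F (q + 1)) p W) (hv : ((cover U).dc F W).v p (q + 1) x = 0) :
    ∃ (W' : Opens X) (h : W' ≤ W) (y : (cover U).Cx (Nerve.Aq F q) p W'), s ∈ W' ∧
      ((cover U).rW (Nerve.Aq F (q + 1)) p h x : ((cover U).dc F W').Φ p (q + 1)) =
        ((cover U).dc F W').v p q y := by
  classical
  obtain ⟨G, hsG, hG, hfin⟩ := exists_good U hU hlf s
  obtain ⟨W', hW', hs', h⟩ := exists_common U hfin p (show s ∈ W ⊓ G from ⟨hs, hsG⟩)
    (fun σ W' => ∃ y, ((mdl F).dA (q + 1)).app _ _ y =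
      rs ((Nerve.Aq F (q + 1)).sh (interObj U p σ)).obj
        ((Opens.map (interObj U p σ).hom).monotone (inf_le_right : W' ⊓ W ≤ W)) (x σ))
    (fun σ W' W'' hle ⟨y, hy⟩ => by
      refine ⟨rs _ ((Opens.map (interObj U p σ).hom).monotone (inf_le_inf_right W hle)) y, ?_⟩
      rw [Fam.Hom.natural_rs, hy]
      exact rs_rs _ _ _ _)
    (fun σ hσ => by
      obtain ⟨D, hD, n, hsD, hn⟩ := (mdl F).exists_near_preimage (q + 1) (x σ) (congrFun hv σ)
        ⟨s, Set.mem_iInter.mpr hσ⟩ hs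
      obtain ⟨O, hsO, hOD⟩ := pre_le U σ hσ hsD
      have hle : PreNerve.pre (Y := interObj U p σ) (O ⊓ W) ≤ D := fun z hz => hOD hz.1
      refine ⟨O, hsO, rs _ hle n, ?_⟩
      refine (Fam.Hom.natural_rs _ hle n).trans ?_
      exact (congrArg _ hn).trans (rs_rs _ _ _ _))
  have hW'W : W' ≤ W := hW'.trans inf_le_left
  refine ⟨W', hW'W, fun σ => if hσ : ∀ k, s ∈ U (σ k) then
    rs ((Nerve.Aq F q).sh (interObj U p σ)).obj
      ((Opens.map (interObj U p σ).hom).monotone (le_inf le_rfl hW'W)) (h σ hσ).choose else 0,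
    hs', funext fun σ => ?_⟩
  by_cases hσ : ∀ k, s ∈ U (σ k)
  · show rs ((Nerve.Aq F (q + 1)).sh (interObj U p σ)).obj ((Opens.map (interObj U p σ).hom).monotone hW'W) (x σ) =
      ((mdl F).dA (q + 1)).app (interObj U p σ) _ (dite _ _ _)
    refine Eq.trans ?_ (congrArg _ (dif_pos hσ)).symm
    refine Eq.trans ?_ (Fam.Hom.natural_rs _ _ _).symm
    exact (rs_rs _ _ _ _).symm.trans (congrArg _ (h σ hσ).choose_spec.symm)
  · exact sections_eq_of_empty _ (not_mem_pre U (hG.mono U (hW'.trans inf_le_right)) hσ) _ _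

/-- A cocycle of sections near `s` is represented by sections of `F`. -/
lemma exists_constCx (hU : ∀ i, IsClosed (U i)) (hlf : LocallyFinite U) (W : Opens X) (s : X) (hs : s ∈ W)
    (p : ℕ) (x : (cover U).Cx (Nerve.Aq F 0) p W) (hv : ((cover U).dc F W).v p 0 x = 0) :
    ∃ (W' : Opens X) (h : W' ≤ W) (t : (Fin (p + 1) → I) → F.obj.obj (op W')), s ∈ W' ∧
      Good U s W' ∧ {i | s ∈ U i}.Finite ∧ (cover U).rW (Nerve.Aq F 0) p h x = constCx U F p W' t := by
  classical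
  obtain ⟨G, hsG, hG, hfin⟩ := exists_good U hU hlf s
  obtain ⟨W', hW', hs', h⟩ := exists_common U hfin p (show s ∈ W ⊓ G from ⟨hs, hsG⟩)
    (fun σ W' => ∃ t : F.obj.obj (op (W' ⊓ W)), ((mdl F).dA 0).app _ _ (mdlOf F (interObj U p σ) (W' ⊓ W) t) =
      rs ((Nerve.Aq F 0).sh (interObj U p σ)).obj
        ((Opens.map (interObj U p σ).hom).monotone (inf_le_right : W' ⊓ W ≤ W)) (x σ))
    (fun σ W' W'' hle ⟨t, ht⟩ => by
      refine ⟨rs F.obj (inf_le_inf_right W hle) t, ?_⟩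
      have e : mdlOf F (interObj U p σ) (W'' ⊓ W) (rs F.obj (inf_le_inf_right W hle) t) =
          rs ((mdl F).sh (interObj U p σ)).obj
            ((Opens.map (interObj U p σ).hom).monotone (inf_le_inf_right W hle)) (mdlOf F _ (W' ⊓ W) t) :=
        Subtype.ext (funext fun ⟨z, hz⟩ => funext fun ⟨y, hy⟩ => germ_rs F (inf_le_inf_right W hle) y (hy ▸ hz) t)
      refine (congrArg _ e).trans ((Fam.Hom.natural_rs _ _ _).trans ?_)
      exact (congrArg _ ht).trans (rs_rs _ _ _ _))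
    (fun σ hσ => by
      obtain ⟨D, hD, m, hsD, hm⟩ := (mdl F).exists_near_preimage 0 (x σ) (congrFun hv σ)
        ⟨s, Set.mem_iInter.mpr hσ⟩ hs
      obtain ⟨D', hD', W₀, t, hsD', ht⟩ := (show mdlSec F (interObj U p σ) D from m).2 _ hsD
      obtain ⟨O, hsO, hOD⟩ := pre_le U σ hσ hsD'
      obtain ⟨hsW₀, -⟩ := ht _ hsD' s rfl
      refine ⟨O ⊓ W₀, ⟨hsO, hsW₀⟩, rs F.obj (inf_le_left.trans inf_le_right) t, ?_⟩
      have hle : PreNerve.pre (Y := interObj U p σ) ((O ⊓ W₀) ⊓ W) ≤ D' := fun z hz => hOD hz.1.1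
      have e : mdlOf F (interObj U p σ) ((O ⊓ W₀) ⊓ W) (rs F.obj (inf_le_left.trans inf_le_right) t) =
          rs ((mdl F).sh (interObj U p σ)).obj (hle.trans hD') m := by
        refine Subtype.ext (funext fun ⟨z, hz⟩ => funext fun ⟨y, hy⟩ => ?_)
        obtain ⟨a, ea⟩ := ht z (hle hz) y hy
        exact (germ_rs F _ y (hy ▸ hz) t).trans ea.symm
      refine (congrArg _ e).trans ((Fam.Hom.natural_rs _ _ _).trans ?_)
      exact (congrArg _ hm).trans (rs_rs _ _ _ _))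
  have hW'W : W' ≤ W := hW'.trans inf_le_left
  refine ⟨W', hW'W, fun σ => if hσ : ∀ k, s ∈ U (σ k) then rs F.obj (le_inf le_rfl hW'W) (h σ hσ).choose else 0,
    hs', hG.mono U (hW'.trans inf_le_right), hfin, funext fun σ => ?_⟩
  by_cases hσ : ∀ k, s ∈ U (σ k)
  · show rs ((Nerve.Aq F 0).sh (interObj U p σ)).obj ((Opens.map (interObj U p σ).hom).monotone hW'W) (x σ) =
      ((mdl F).dA 0).app _ _ (mdlOf F (interObj U p σ) W' (dite _ _ _))
    refine Eq.trans ?_ (congrArg (fun v => ((mdl F).dA 0).app _ _ (mdlOf F (interObj U p σ) W' v)) (dif_pos hσ)).symm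
    have e : mdlOf F (interObj U p σ) W' (rs F.obj (le_inf le_rfl hW'W) (h σ hσ).choose) =
        rs ((mdl F).sh (interObj U p σ)).obj
          ((Opens.map (interObj U p σ).hom).monotone (le_inf le_rfl hW'W)) (mdlOf F _ (W' ⊓ W) (h σ hσ).choose) :=
      Subtype.ext (funext fun ⟨z, hz⟩ => funext fun ⟨y, hy⟩ => germ_rs F (le_inf le_rfl hW'W) y (hy ▸ hz) _)
    refine Eq.trans ?_ ((congrArg _ e).trans (Fam.Hom.natural_rs _ _ _)).symm
    exact (rs_rs _ _ _ _).symm.trans (congrArg _ (h σ hσ).choose_spec.symm)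
  · exact sections_eq_of_empty _ (not_mem_pre U (hG.mono U (hW'.trans inf_le_right)) hσ) _ _

/-- Local exactness for a locally finite closed covering. -/
theorem critL_cover (hU : ∀ i, IsClosed (U i)) (hlf : LocallyFinite U) (hcov : ⋃ i, U i = Set.univ) :
    (cover U).CritL F := by
  intro W s hs p q x hv hw
  obtain ⟨w, hw⟩ := hw
  let N := cover U
  rcases q with _ | q
  swap
  · obtain ⟨W', h, y, hs', e⟩ := critL_succ U F hU hlf W s hs p q x hv
    classical
    refine ⟨W', h, 0, (N.dc F W').single p q y, 0, hs', fun _ _ => map_zero _, ?_⟩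
    have e1 : (N.dc F W').hIn (0 : (N.dc F W').Fam) p (q + 1) = 0 := by
      rcases p with _ | p
      · rfl
      · exact map_zero _
    have e3 : N.aug F W' (0 : F.obj.obj (op W')) p (q + 1) = 0 := congrFun (congrFun (map_zero (N.aug F W')) p) (q + 1)
    have e2 : (N.dc F W').vIn ((N.dc F W').single p q y) p (q + 1) = (N.dc F W').v p q y :=
      congrArg ((N.dc F W').v p q) ((N.dc F W').single_same p q y)
    refine Eq.trans ?_ (congrArg₂ (fun a b : (N.dc F W').Φ p (q + 1) => a + b)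
      (congrArg₂ (fun a b : (N.dc F W').Φ p (q + 1) => a + b) e1 e2) e3).symm
    exact e.trans ((add_zero _).trans (zero_add _)).symm
  obtain ⟨W₁, h₁, t, hs₁, hG, hfin, ht⟩ := exists_constCx U F hU hlf W s hs p x hv
  have hδ : constCx U F (p + 1) W₁ (dt F p W₁ t) = 0 := by
    rw [← δs_constCx, ← ht, ← PreNerve.rW_δs]
    exact (congrArg (N.rW (Nerve.Aq F 0) (p + 1) h₁) hw.symm).trans (map_zero _)
  obtain ⟨i₀, hi₀⟩ : ∃ i, s ∈ U i := Set.mem_iUnion.mp (hcov ▸ Set.mem_univ s)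
  have hgerm : ∀ σ : Fin (p + 1) → I, (∀ k, s ∈ U (σ k)) →
      germ F s hs₁ (t σ) = ∑ i : Fin (p + 1),
        ((-1) ^ (i : ℕ) : ℤ) • germ F s hs₁ (t (Fin.cons i₀ fun k => σ (i.succAbove k))) := by
    intro σ hσ
    have e := germ_eq_zero_of_constCx U F hs₁ (dt F p W₁ t) hδ (Fin.cons i₀ σ)
      (Fin.cases hi₀ (fun k => hσ k))
    have e' : (0 : CohTop.stalk F s) = ∑ i : Fin (p + 2), ((-1) ^ (i : ℕ) : ℤ) •
        germ F s hs₁ (t fun k => (Fin.cons i₀ σ : Fin (p + 2) → I) (i.succAbove k)) := by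
      rw [← e]
      simp [dt, map_sum]
    rw [Fin.sum_univ_succ] at e'
    simp only [Fin.val_zero, pow_zero, one_smul, Fin.succAbove_zero, Fin.cons_succ, Fin.val_succ, pow_succ,
      mul_neg, mul_one, neg_smul, Finset.sum_neg_distrib] at e'
    rw [eq_comm, add_neg_eq_zero] at e'
    refine e'.trans (Finset.sum_congr rfl fun i _ => ?_)
    refine congrArg (fun τ => _ • germ F s hs₁ (t τ)) (funext fun k => ?_)
    cases k using Fin.cases with
    | zero => simp
    | succ k => simp [Fin.succ_succAbove_succ]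
  rcases p with _ | p
  · obtain ⟨W₂, h₂, hs₂, h0⟩ := exists_constCx_eq_zero U F hfin hs₁ hG
      (fun σ => t σ - t fun _ => i₀) fun σ hσ => by
        rw [map_sub, sub_eq_zero, hgerm σ hσ]
        refine (Fin.sum_univ_one _).trans ((one_smul ℤ _).trans ?_)
        refine congrArg (fun τ => germ F s hs₁ (t τ)) (funext fun k => ?_)
        rw [Fin.eq_zero k]
        rfl
    refine ⟨W₂, h₂.trans h₁, 0, 0, rs F.obj h₂ (t fun _ => i₀), hs₂, fun _ _ => map_zero _, ?_⟩
    refine Eq.trans ?_ ((congrArg (fun a : (N.dc F W₂).Φ 0 0 => a + _) (add_zero (0 : (N.dc F W₂).Φ 0 0))).trans (zero_add _)).symm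
    refine (rW_rW N (Nerve.Aq F 0) 0 h₁ h₂ x).symm.trans ?_
    rw [ht, rW_constCx]
    simp only [map_sub] at h0
    refine sub_eq_zero.mp (Eq.trans ?_ h0)
    exact (map_sub (constCx U F 0 W₂) (fun σ => rs F.obj h₂ (t σ)) fun _ => rs F.obj h₂ (t fun _ => i₀)).symm
  · classical
    let b : (Fin (p + 1) → I) → F.obj.obj (op W₁) := fun τ => t (Fin.cons i₀ τ)
    obtain ⟨W₂, h₂, hs₂, h0⟩ := exists_constCx_eq_zero U F hfin hs₁ hG
      (fun σ => t σ - dt F p W₁ b σ) fun σ hσ => by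
        rw [map_sub, sub_eq_zero, hgerm σ hσ]
        simp [dt, b, map_sum]
    let z₀ := constCx U F p W₂ fun τ => rs F.obj h₂ (b τ)
    have hz₀ : (N.dc F W₂).v p 0 z₀ = 0 := funext fun σ => (mdl F).dA_dA 0 _ _ _
    refine ⟨W₂, h₂.trans h₁, (N.dc F W₂).single p 0 z₀, 0, 0, hs₂, v_single (M := (cover U).dc F W₂) p 0 z₀ hz₀, ?_⟩
    have e1 : (N.dc F W₂).hIn ((N.dc F W₂).single p 0 z₀) (p + 1) 0 = N.δs (Nerve.Aq F 0) p W₂ z₀ :=
      congrArg _ ((N.dc F W₂).single_same p 0 z₀)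
    have e3 : N.aug F W₂ (0 : F.obj.obj (op W₂)) (p + 1) 0 = 0 := congrFun (congrFun (map_zero (N.aug F W₂)) (p + 1)) 0
    refine Eq.trans ?_ (congrArg₂ (fun a b : (N.dc F W₂).Φ (p + 1) 0 => a + b)
      ((add_zero _).trans e1) e3).symm
    refine Eq.trans ?_ (add_zero _).symm
    refine (rW_rW N (Nerve.Aq F 0) (p + 1) h₁ h₂ x).symm.trans ?_
    rw [ht, rW_constCx, δs_constCx]
    refine sub_eq_zero.mp (Eq.trans ?_ h0)
    refine (map_sub (constCx U F (p + 1) W₂) _ _).symm.trans (congrArg _ (funext fun σ => ?_))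
    simp [dt, map_sum]

/-- The descent spectral sequence of a locally finite closed covering. -/
theorem exists_descent_cover (hU : ∀ i, IsClosed (U i)) (hlf : LocallyFinite U) (hcov : ⋃ i, U i = Set.univ) :
    ∃ (E : CohomologicalSpectralSequence AddCommGrpCat.{u} 1)
      (a : SpSeq.Abutment E (fun n : ℤ =>
        if 0 ≤ n then AddCommGrpCat.of (CohTop.H F n.toNat) else AddCommGrpCat.of PUnit.{u + 1})),
      (∀ n, a.IsFinite n) ∧ SpSeq.IsBounded E ∧
      ∀ p q : ℤ, Nonempty ((E.page 1 le_rfl).X (p, q) ≅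
        (if 0 ≤ p ∧ 0 ≤ q then
          AddCommGrpCat.of (∀ σ : Fin (p.toNat + 1) → I,
            CohTop.H ((CohTop.pull (interObj U p.toNat σ).hom).obj F) q.toNat)
         else AddCommGrpCat.of PUnit.{u + 1})) := by
  refine (cover U).exists_descent F (critL_cover U F hU hlf hcov) (critI_of_surjective _ F fun s => ?_)
    (fun pq => if 0 ≤ pq.1 ∧ 0 ≤ pq.2 then
      AddCommGrpCat.of (∀ σ : Fin (pq.1.toNat + 1) → I,
        CohTop.H ((CohTop.pull (interObj U pq.1.toNat σ).hom).obj F) pq.2.toNat)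
      else AddCommGrpCat.of PUnit.{u + 1}) (fun p q => ?_) (fun p q h => ?_)
  · obtain ⟨i, hi⟩ := Set.mem_iUnion.mp (hcov ▸ Set.mem_univ s)
    exact ⟨fun _ => i, ⟨s, Set.mem_iInter.mpr fun _ => hi⟩, rfl⟩
  · exact ⟨eqToIso (if_pos (show (0 : ℤ) ≤ p ∧ (0 : ℤ) ≤ q from ⟨Int.natCast_nonneg p, Int.natCast_nonneg q⟩)).symm⟩
  · rw [if_neg (show ¬ (0 ≤ p ∧ 0 ≤ q) by omega)]
    exact AddCommGrpCat.isZero_of_subsingleton _

end Groth.Agent.Desc49
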