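import Groth.Agent.Desc49.Descent
import Groth.Agent.TopCoh49.Continuity

/-!
Cohomology classes near a compact fibre and on the fibre.
-/

universe u

open CategoryTheory Limits TopologicalSpace Opposite
open Groth.Agent.TopCoh49 Groth.Agent.SpSeq49

namespace Groth.Agent.Desc49

namespace FRes

variable {Z : TopCat.{u}} {F : CohTop.Ab Z} (R : FRes F)

/-- Boundaries over an open. -/
def Bd : ∀ q (U : Opens Z), (R.K q).obj.obj (op U) → Prop
  | 0, _, m => m = 0
  | q + 1, U, m => ∃ y, ap (R.d q) U y = m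

lemma θ_eq_zero_iff : ∀ (q : ℕ) (U : Opens Z) (s : R.cyc U q), θ q R U s = 0 ↔ R.Bd q U s.1
  | 0, U, s => R.θ_zero_iff U s
  | q + 1, U, s => θ_succ_eq_zero_iff q R U s

end FRes

variable {S : TopCat.{u}}

section ResHom

variable {Y' Y : Over S} (κ : Y' ⟶ Y)

/-- A morphism over the base, as a map. -/
noncomputable def κP : PMap Y' Y := PMap.ofOver κ.left (Over.w κ)
where
  /-- A morphism of spaces over the base, as a map. -/
  PMap.ofOver {Y' Y : Over S} (g : Y'.left ⟶ Y.left) (hg : g ≫ Y.hom = Y'.hom) : PMap Y' Y :=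
    { dom := ⊤
      toFun := fun z _ => g z
      continuous := g.hom.continuous.comp continuous_subtype_val
      over := fun z _ => ConcreteCategory.congr_hom hg z }

lemma κP_maps {U' : Opens Y'.left} {U : Opens Y.left} (h : U' ≤ (Opens.map κ.left).obj U) :
    (κP κ).Maps U' U := fun _ hz => ⟨trivial, h hz⟩

variable (G : Fam S)

/-- Restriction along a morphism, as a map of sheaves to the direct image. -/
noncomputable def toPushRes : G.sh Y ⟶ (CohTop.push κ.left).obj (G.sh Y') :=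
  ⟨{ app := fun U => AddCommGrpCat.ofHom (G.res (κP κ) (κP_maps κ (le_refl ((Opens.map κ.left).obj U.unop))))
     naturality := fun U V i => AddCommGrpCat.ext fun t => by
      have h : (Opens.map κ.left).obj V.unop ≤ (Opens.map κ.left).obj U.unop :=
        (Opens.map κ.left).monotone (leOfHom i.unop)
      exact (G.res_rs (κP κ) (leOfHom i.unop) (κP_maps κ h) (κP_maps κ le_rfl) t).trans
        (G.rs_res (κP κ) h (κP_maps κ le_rfl) (κP_maps κ h) t).symm }⟩

/-- Restriction along a morphism, as a map from the inverse image. -/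
noncomputable def resHom : (CohTop.pull κ.left).obj (G.sh Y) ⟶ G.sh Y' :=
  ((TopCat.Sheaf.pullbackPushforwardAdjunction AddCommGrpCat.{u} κ.left).homEquiv _ _).symm (toPushRes κ G)

lemma resHom_unit (U : Opens Y.left) (t : (G.sh Y).obj.obj (op U)) :
    ap (resHom κ G) ((Opens.map κ.left).obj U) ((unitPre κ.left (G.sh Y)).app (op U) t) =
      G.res (κP κ) (κP_maps κ le_rfl) t := by
  have h := ((TopCat.Sheaf.pullbackPushforwardAdjunction AddCommGrpCat.{u} κ.left).homEquiv _ _).apply_symm_apply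
    (toPushRes κ G)
  replace h := ((TopCat.Sheaf.pullbackPushforwardAdjunction AddCommGrpCat.{u} κ.left).homEquiv_unit (G.sh Y) _
    (resHom κ G)).symm.trans h
  exact ConcreteCategory.congr_hom (congrArg (fun φ => φ.hom.app (op U)) h) t

lemma resHom_rs {U : Opens Y.left} {U' : Opens Y'.left} (h : U' ≤ (Opens.map κ.left).obj U)
    (t : (G.sh Y).obj.obj (op U)) :
    ap (resHom κ G) U' (rs _ h ((unitPre κ.left (G.sh Y)).app (op U) t)) =
      G.res (κP κ) (κP_maps κ h) t := by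
  rw [ap_rs, resHom_unit]
  exact G.rs_res (κP κ) h (κP_maps κ le_rfl) (κP_maps κ h) t

variable {G} {H : Fam S}

lemma resHom_natural (φ : G.Hom H) :
    (CohTop.pull κ.left).map (φ.toSheafHom Y) ≫ resHom κ H = resHom κ G ≫ φ.toSheafHom Y' := by
  apply ((TopCat.Sheaf.pullbackPushforwardAdjunction AddCommGrpCat.{u} κ.left).homEquiv _ _).injective
  refine ((TopCat.Sheaf.pullbackPushforwardAdjunction AddCommGrpCat.{u} κ.left).homEquiv_naturality_left
    (φ.toSheafHom Y) (resHom κ H)).trans (Eq.trans ?_ ((TopCat.Sheaf.pullbackPushforwardAdjunction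
      AddCommGrpCat.{u} κ.left).homEquiv_naturality_right (resHom κ G) (φ.toSheafHom Y')).symm)
  refine (congrArg (φ.toSheafHom Y ≫ ·) (Equiv.apply_symm_apply _ (toPushRes κ H))).trans
    (Eq.trans ?_ (congrArg (fun ψ => ψ ≫ (CohTop.push κ.left).map (φ.toSheafHom Y'))
      (Equiv.apply_symm_apply _ (toPushRes κ G))).symm)
  exact hom_ext_ap fun U t => (φ.natural (κP κ) (κP_maps κ le_rfl) t).symm

variable (F : CohTop.Ab S)

instance isIso_resHom_mdl : IsIso (resHom κ (mdl F)) := by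
  have : ∀ z : Y'.left, IsIso ((TopCat.Presheaf.stalkFunctor AddCommGrpCat.{u} z).map (resHom κ (mdl F)).1) := by
    intro z
    have hz : Y.hom (κ.left z) = Y'.hom z := ConcreteCategory.congr_hom (Over.w κ) z
    have key : ∀ (W : Opens S) (hW : Y'.hom z ∈ W) (t : F.obj.obj (op W)),
        (TopCat.Presheaf.stalkFunctor AddCommGrpCat.{u} z).map (resHom κ (mdl F)).1
          (stalkUnit κ.left _ z (germ ((mdl F).sh Y) (U := (Opens.map Y.hom).obj W) (κ.left z)
            (show Y.hom (κ.left z) ∈ W from hz.symm ▸ hW) (mdlOf F Y W t))) =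
          germ ((mdl F).sh Y') (U := (Opens.map Y'.hom).obj W) z hW (mdlOf F Y' W t) := by
      intro W hW t
      refine (congrArg _ (germ_stalkUnit_apply κ.left _ z _ _ _)).trans ?_
      refine (TopCat.Presheaf.stalkFunctor_map_germ_apply _ z _ (resHom κ (mdl F)).1 _).trans ?_
      refine (congrArg _ (resHom_unit κ (mdl F) ((Opens.map Y.hom).obj W) (mdlOf F Y W t))).trans ?_
      have hle : (Opens.map Y'.hom).obj W ≤ (Opens.map κ.left).obj ((Opens.map Y.hom).obj W) := fun w hw =>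
        show Y.hom (κ.left w) ∈ W from (ConcreteCategory.congr_hom (Over.w κ) w).symm ▸ hw
      refine Eq.trans (germ_rs ((mdl F).sh Y') hle z hW _).symm ?_
      exact congrArg (germ ((mdl F).sh Y') z hW) (Subtype.ext rfl)
    rw [ConcreteCategory.isIso_iff_bijective]
    refine ⟨(injective_iff_map_eq_zero (AddCommGrpCat.Hom.hom _)).mpr fun a ha => ?_, fun b => ?_⟩
    · obtain ⟨a', rfl⟩ := (stalkUnit_bijective κ.left _ z).2 a
      obtain ⟨U, hU, m, rfl⟩ := Fam.exists_germ a'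
      obtain ⟨V, hV, W, t, hzV, ht⟩ := (show mdlSec F Y U from m).2 _ hU
      obtain ⟨hW, -⟩ := ht _ hzV (Y'.hom z) hz
      have e : germ ((mdl F).sh Y) (κ.left z) hU m =
          germ ((mdl F).sh Y) (U := (Opens.map Y.hom).obj W) (κ.left z)
            (show Y.hom (κ.left z) ∈ W from hz.symm ▸ hW) (mdlOf F Y W t) := by
        refine TopCat.Presheaf.germ_ext _ (V ⊓ (Opens.map Y.hom).obj W) ⟨hzV, show Y.hom (κ.left z) ∈ W from hz.symm ▸ hW⟩
          (homOfLE (inf_le_left.trans hV)) (homOfLE inf_le_right) ?_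
        refine Subtype.ext (funext fun ⟨w, hw⟩ => funext fun ⟨x, hx⟩ => ?_)
        obtain ⟨_, ea⟩ := ht w hw.1 x hx
        exact ea
      rw [e] at ha ⊢
      have h1 := ((key W hW t).symm.trans ha).trans
        (map_zero (germ ((mdl F).sh Y') (U := (Opens.map Y'.hom).obj W) z hW)).symm
      obtain ⟨V', hzV', i, _, e'⟩ := TopCat.Presheaf.germ_eq _ z hW hW _ _ h1
      have e'' : germ F (Y'.hom z) hW t = 0 :=
        congrFun (congrFun (congrArg Subtype.val e') ⟨z, hzV'⟩) ⟨Y'.hom z, rfl⟩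
      obtain ⟨N, hN, i₁, _, e₃⟩ := TopCat.Presheaf.germ_eq F.obj _ hW hW t 0 (e''.trans (map_zero _).symm)
      have hN' : κ.left z ∈ (Opens.map Y.hom).obj N := show Y.hom (κ.left z) ∈ N from hz.symm ▸ hN
      refine (congrArg _ ?_).trans (map_zero _)
      refine (germ_rs ((mdl F).sh Y) ((Opens.map Y.hom).monotone (leOfHom i₁)) (κ.left z) hN'
        (mdlOf F Y W t)).symm.trans ((congrArg _ ?_).trans (map_zero _))
      refine Subtype.ext (funext fun ⟨w, hw⟩ => funext fun ⟨x, hx⟩ => ?_)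
      refine (germ_rs F (leOfHom i₁) x (hx ▸ hw) t).symm.trans ?_
      exact (congrArg _ (e₃.trans (map_zero _))).trans (map_zero _)
    · obtain ⟨U', hU', m, rfl⟩ := Fam.exists_germ b
      obtain ⟨V, hV, W, t, hzV, ht⟩ := (show mdlSec F Y' U' from m).2 _ hU'
      obtain ⟨hW, -⟩ := ht z hzV _ rfl
      refine ⟨_, (key W hW t).trans ?_⟩
      refine TopCat.Presheaf.germ_ext _ (V ⊓ (Opens.map Y'.hom).obj W) ⟨hzV, hW⟩ (homOfLE inf_le_right)
        (homOfLE (inf_le_left.trans hV)) ?_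
      refine Subtype.ext (funext fun ⟨w, hw⟩ => funext fun ⟨x, hx⟩ => ?_)
      obtain ⟨_, ea⟩ := ht w hw.1 x hx
      exact ea.symm
  exact TopCat.Presheaf.isIso_of_stalkFunctor_map_iso (resHom κ (mdl F))

end ResHom

section Classes

variable {Y' Y : Over S} (κ : Y' ⟶ Y) (F : CohTop.Ab S)

/-- The class of the restriction of a cycle is the inverse image of its class. -/
lemma θ_res (q : ℕ) {U : Opens Y.left} {U' : Opens Y'.left} (h : U' ≤ (Opens.map κ.left).obj U)
    (x : ((mdl F).fres Y).cyc U q) (c : ((mdl F).fres Y').cyc U' q)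
    (hc : c.1 = ((mdl F).A (q + 1)).res (κP κ) (κP_maps κ h) x.1) :
    FRes.θ q _ U' c = emap (resHom κ (mdl F)) q U' (pullE κ.left _ q h (FRes.θ q _ U x)) :=
  FRes.θ_pull κ.left q ((mdl F).fres Y) ((mdl F).fres Y') (resHom κ (mdl F))
    (fun n => resHom κ ((mdl F).A (n + 1))) (resHom_natural κ ((mdl F).dA 0))
    (fun n => resHom_natural κ ((mdl F).dA (n + 1))) h x c (hc.trans (resHom_rs κ ((mdl F).A (q + 1)) h x.1).symm)

variable {s : S} [CompactSpace Y'.left] [T2Space Y'.left] (hκ : Topology.IsEmbedding κ.left)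
  (hsep : SepPts (Set.range κ.left))
  (htube : ∀ U : Opens Y.left, Set.range κ.left ⊆ U → ∃ W : Opens S, s ∈ W ∧ PreNerve.pre W ≤ U)

include hκ hsep htube in
/-- Every class on the fibre comes from a neighbourhood. -/
theorem exists_class_near (hfib : ∀ (W : Opens S), s ∈ W → ⊤ ≤ (Opens.map κ.left).obj (PreNerve.pre W))
    (q : ℕ) (c : ((mdl F).fres Y').cyc ⊤ q) :
    ∃ (W : Opens S) (hs : s ∈ W) (x : ((mdl F).fres Y).cyc (PreNerve.pre W) q),
      ((mdl F).fres Y').Bd q ⊤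
        ((show (((mdl F).fres Y').K q).obj.obj (op ⊤) from
          ((mdl F).A (q + 1)).res (κP κ) (κP_maps κ (hfib W hs)) x.1) - c.1) := by
  obtain ⟨U, hU, ξ, hξ⟩ := (pullE_continuity_compact κ.left hκ hsep q ((mdl F).sh Y)).1
    (emap (inv (resHom κ (mdl F))) q ⊤ (FRes.θ q _ ⊤ c))
  obtain ⟨W, hs, hW⟩ := htube U hU
  obtain ⟨x, hx⟩ := FRes.θ_surjective q ((mdl F).fres Y) (PreNerve.pre W) (eres _ q hW ξ)
  let m := ((mdl F).A (q + 1)).res (κP κ) (κP_maps κ (hfib W hs)) x.1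
  have hm : m ∈ ((mdl F).fres Y').cyc ⊤ q :=
    (((mdl F).dA (q + 1)).natural (κP κ) (κP_maps κ (hfib W hs)) x.1).trans
      ((congrArg _ x.2).trans (map_zero _))
  refine ⟨W, hs, x, ((((mdl F).fres Y').θ_eq_zero_iff q ⊤) (⟨m, hm⟩ - c)).mp ?_⟩
  rw [map_sub, sub_eq_zero, θ_res κ F q (hfib W hs) x ⟨m, hm⟩ rfl, hx, pullE_eres]
  refine (congrArg (emap (resHom κ (mdl F)) q ⊤) hξ).trans ?_
  rw [emap_emap, IsIso.inv_hom_id]
  exact Abelian.Ext.comp_mk₀_id _

include hκ hsep htube in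
/-- A class near the fibre vanishing on the fibre vanishes near it. -/
theorem exists_vanish_near (hfib : ∀ (W : Opens S), s ∈ W → ⊤ ≤ (Opens.map κ.left).obj (PreNerve.pre W))
    (q : ℕ) {W : Opens S} (hs : s ∈ W) (x : ((mdl F).fres Y).cyc (PreNerve.pre W) q)
    (h : ((mdl F).fres Y').Bd q ⊤ (((mdl F).A (q + 1)).res (κP κ) (κP_maps κ (hfib W hs)) x.1)) :
    ∃ (W' : Opens S) (hle : W' ≤ W), s ∈ W' ∧
      ((mdl F).fres Y).Bd q (PreNerve.pre W') (rs (((mdl F).A (q + 1)).sh Y).obj ((Opens.map Y.hom).monotone hle) x.1) := by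
  have hm : ((mdl F).A (q + 1)).res (κP κ) (κP_maps κ (hfib W hs)) x.1 ∈ ((mdl F).fres Y').cyc ⊤ q :=
    (((mdl F).dA (q + 1)).natural (κP κ) (κP_maps κ (hfib W hs)) x.1).trans
      ((congrArg _ x.2).trans (map_zero _))
  have h0 := (((mdl F).fres Y').θ_eq_zero_iff q ⊤ ⟨_, hm⟩).mpr h
  rw [θ_res κ F q (hfib W hs) x ⟨_, hm⟩ rfl] at h0
  have h1 : pullE κ.left _ q (hfib W hs) (FRes.θ q _ _ x) = 0 := by
    have := congrArg (emap (inv (resHom κ (mdl F))) q ⊤) h0
    rw [emap_emap, IsIso.hom_inv_id, map_zero] at this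
    exact (Abelian.Ext.comp_mk₀_id _).symm.trans this
  obtain ⟨V, hV, hVr, hV0⟩ := (pullE_continuity_compact κ.left hκ hsep q ((mdl F).sh Y)).2
    (PreNerve.pre W) (fun _ ⟨z, hz⟩ => hz ▸ hfib W hs (show z ∈ (⊤ : Opens Y'.left) from trivial)) _ h1
  obtain ⟨W', hs', hW'⟩ := htube V hVr
  refine ⟨W' ⊓ W, inf_le_right, ⟨hs', hs⟩, (((mdl F).fres Y).θ_eq_zero_iff q _ ⟨_, FRes.rs_mem_cyc _ _ x⟩).mp ?_⟩
  rw [← FRes.eres_θ]
  have hle : PreNerve.pre (Y := Y) (W' ⊓ W) ≤ V := fun z hz => hW' hz.1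
  refine (eres_eres _ q hV hle _).symm.trans ?_
  exact (congrArg _ hV0).trans (map_zero _)

end Classes

end Groth.Agent.Desc49
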