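import Groth.Agent.TopCoh49.Soft
import Mathlib.CategoryTheory.Comma.Over.Basic
import Mathlib.Topology.Sheaves.Flasque
import Mathlib.Topology.Sheaves.SheafCondition.UniqueGluing

/-!
Families of abelian sheaves on the spaces over a base, functorial for partially defined maps, and their
canonical flasque (Godement) resolutions.
-/

universe u

open CategoryTheory Limits TopologicalSpace Opposite
open Groth.Agent.TopCoh49

namespace Groth.Agent.Desc49

variable {S : TopCat.{u}}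

/-- A map over the base, defined on an open subset. -/
structure PMap (Y' Y : Over S) where
  /-- The domain. -/
  dom : Opens Y'.left
  /-- The map. -/
  toFun : ∀ z : Y'.left, z ∈ dom → Y.left
  continuous : Continuous fun z : dom => toFun z.1 z.2
  over : ∀ z hz, Y.hom (toFun z hz) = Y'.hom z

namespace PMap

variable {Y'' Y' Y : Over S}

/-- `f` sends `U'` into `U`. -/
def Maps (f : PMap Y' Y) (U' : Opens Y'.left) (U : Opens Y.left) : Prop :=
  ∀ z ∈ U', ∃ hz : z ∈ f.dom, f.toFun z hz ∈ U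

/-- The identity map. -/
def id (Y : Over S) : PMap Y Y where
  dom := ⊤
  toFun z _ := z
  continuous := continuous_subtype_val
  over _ _ := rfl

lemma id_maps {U' U : Opens Y.left} (h : U' ≤ U) : (PMap.id Y).Maps U' U := fun _ hz => ⟨trivial, h hz⟩

/-- The preimage of an open. -/
def pre (f : PMap Y' Y) (U : Opens Y.left) : Opens Y'.left where
  carrier := {z | ∃ hz : z ∈ f.dom, f.toFun z hz ∈ U}
  is_open' := by
    have := f.dom.isOpen.isOpenMap_subtype_val _ (U.isOpen.preimage f.continuous)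
    convert this using 1
    ext z
    exact ⟨fun ⟨hz, h⟩ => ⟨⟨z, hz⟩, h, rfl⟩, by rintro ⟨⟨w, hw⟩, h, rfl⟩; exact ⟨hw, h⟩⟩

lemma mem_pre (f : PMap Y' Y) {U : Opens Y.left} {z : Y'.left} (hz : z ∈ f.dom) (h : f.toFun z hz ∈ U) :
    z ∈ f.pre U := ⟨hz, h⟩

lemma maps_pre (f : PMap Y' Y) (U : Opens Y.left) : f.Maps (f.pre U) U := fun _ hz => hz

lemma pre_mono (f : PMap Y' Y) {U V : Opens Y.left} (h : V ≤ U) : f.pre V ≤ f.pre U :=
  fun _ ⟨hz, hz'⟩ => ⟨hz, h hz'⟩

/-- Composition. -/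
def comp (g : PMap Y'' Y') (f : PMap Y' Y) : PMap Y'' Y where
  dom := g.pre f.dom
  toFun z hz := f.toFun (g.toFun z hz.1) hz.2
  continuous := by
    have h1 : Continuous fun z : g.pre f.dom => g.toFun z.1 z.2.1 :=
      g.continuous.comp (continuous_subtype_val.subtype_mk fun z => z.2.1)
    exact f.continuous.comp (h1.subtype_mk fun z => z.2.2)
  over z hz := (f.over _ _).trans (g.over _ _)

lemma comp_maps {g : PMap Y'' Y'} {f : PMap Y' Y} {U'' : Opens Y''.left} {U' : Opens Y'.left}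
    {U : Opens Y.left} (hg : g.Maps U'' U') (hf : f.Maps U' U) : (g.comp f).Maps U'' U := fun z hz => by
  obtain ⟨h₁, h₁'⟩ := hg z hz
  obtain ⟨h₂, h₂'⟩ := hf _ h₁'
  exact ⟨⟨h₁, h₂⟩, h₂'⟩

end PMap

/-- A functorial family of abelian sheaves on the spaces over `S`. -/
structure Fam (S : TopCat.{u}) where
  /-- The sheaves. -/
  sh : ∀ Y : Over S, CohTop.Ab Y.left
  /-- The restriction along a partial map. -/
  res : ∀ {Y' Y : Over S} (f : PMap Y' Y) {U' : Opens Y'.left} {U : Opens Y.left}, f.Maps U' U →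
    (sh Y).obj.obj (op U) →+ (sh Y').obj.obj (op U')
  res_comp : ∀ {Y'' Y' Y : Over S} (g : PMap Y'' Y') (f : PMap Y' Y) {U'' : Opens Y''.left}
    {U' : Opens Y'.left} {U : Opens Y.left} (hg : g.Maps U'' U') (hf : f.Maps U' U) (x),
    res g hg (res f hf x) = res (g.comp f) (PMap.comp_maps hg hf) x
  res_id : ∀ {Y : Over S} {U' U : Opens Y.left} (h : U' ≤ U) (x),
    res (PMap.id Y) (PMap.id_maps h) x = rs (sh Y).obj h x
  res_congr : ∀ {Y' Y : Over S} (f f' : PMap Y' Y) {U' : Opens Y'.left} {U : Opens Y.left}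
    (hf : f.Maps U' U) (hf' : f'.Maps U' U),
    (∀ z hz hz', z ∈ U' → f.toFun z hz = f'.toFun z hz') → ∀ x, res f hf x = res f' hf' x

namespace Fam

variable (G : Fam S)

lemma rs_res {Y' Y : Over S} (f : PMap Y' Y) {U' V' : Opens Y'.left} {U : Opens Y.left}
    (hV : V' ≤ U') (hf : f.Maps U' U) (hf' : f.Maps V' U) (x) :
    rs (G.sh Y').obj hV (G.res f hf x) = G.res f hf' x := by
  rw [← G.res_id, G.res_comp]
  exact G.res_congr ((PMap.id Y').comp f) f _ _ (fun _ _ _ _ => rfl) x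

lemma res_rs {Y' Y : Over S} (f : PMap Y' Y) {U' : Opens Y'.left} {U V : Opens Y.left}
    (hV : V ≤ U) (hf : f.Maps U' U) (hf' : f.Maps U' V) (x) :
    G.res f hf' (rs (G.sh Y).obj hV x) = G.res f hf x := by
  rw [← G.res_id, G.res_comp]
  exact G.res_congr (f.comp (PMap.id Y)) f _ _ (fun _ _ _ _ => rfl) x

/-- The cocone defining the map on stalks. -/
noncomputable def stalkCocone {Y' Y : Over S} (f : PMap Y' Y) (z : Y'.left) (hz : z ∈ f.dom) :
    Cocone ((OpenNhds.inclusion (f.toFun z hz)).op ⋙ (G.sh Y).obj) where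
  pt := CohTop.stalk (G.sh Y') z
  ι :=
    { app := fun V => AddCommGrpCat.ofHom ((germ (G.sh Y') (U := f.pre V.unop.1) z (f.mem_pre hz V.unop.2)).comp
        (G.res f (f.maps_pre V.unop.1)))
      naturality := fun V W i => by
        ext x
        exact (congrArg (germ (G.sh Y') (U := f.pre W.unop.1) z (f.mem_pre hz W.unop.2))
            (G.res_rs f (leOfHom i.unop) (fun w hw => f.pre_mono (leOfHom i.unop) hw) (f.maps_pre W.unop.1) x)).trans
          ((congrArg (germ (G.sh Y') (U := f.pre W.unop.1) z (f.mem_pre hz W.unop.2))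
            (G.rs_res f (f.pre_mono (leOfHom i.unop)) (f.maps_pre V.unop.1) _ x).symm).trans
            (germ_rs (G.sh Y') (f.pre_mono (leOfHom i.unop)) z _ _)) }

/-- The map on stalks along a partial map. -/
noncomputable def stalkRes {Y' Y : Over S} (f : PMap Y' Y) (z : Y'.left) (hz : z ∈ f.dom) :
    CohTop.stalk (G.sh Y) (f.toFun z hz) →+ CohTop.stalk (G.sh Y') z :=
  (colimit.desc _ (G.stalkCocone f z hz)).hom

lemma stalkRes_germ {Y' Y : Over S} (f : PMap Y' Y) {U' : Opens Y'.left} {U : Opens Y.left}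
    (hf : f.Maps U' U) (z : Y'.left) (hz : z ∈ U') (h : z ∈ f.dom) (hU : f.toFun z h ∈ U) (x) :
    G.stalkRes f z h (germ (G.sh Y) (f.toFun z h) hU x) = germ (G.sh Y') z hz (G.res f hf x) := by
  have e : G.stalkRes f z h (germ (G.sh Y) (f.toFun z h) hU x) =
      germ (G.sh Y') (U := f.pre U) z (f.mem_pre h hU) (G.res f (f.maps_pre U) x) :=
    ConcreteCategory.congr_hom (colimit.ι_desc (G.stalkCocone f z h) (op ⟨U, hU⟩)) x
  rw [e, ← G.rs_res f (V' := U') (fun w hw => hf w hw) (f.maps_pre U) hf]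
  exact (germ_rs (G.sh Y') (show U' ≤ f.pre U from fun w hw => hf w hw) z hz (G.res f (f.maps_pre U) x)).symm

lemma exists_germ {X : TopCat.{u}} {F : CohTop.Ab X} {x : X} (a : CohTop.stalk F x) :
    ∃ (U : Opens X) (hU : x ∈ U) (s : F.obj.obj (op U)), germ F x hU s = a :=
  TopCat.Presheaf.exists_germ_eq F.obj a

lemma stalkRes_comp {Y'' Y' Y : Over S} (g : PMap Y'' Y') (f : PMap Y' Y) (z : Y''.left)
    (hz : z ∈ (g.comp f).dom) (a) :
    G.stalkRes g z hz.1 (G.stalkRes f (g.toFun z hz.1) hz.2 a) = G.stalkRes (g.comp f) z hz a := by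
  obtain ⟨U, hU, s, rfl⟩ := exists_germ a
  rw [G.stalkRes_germ f (f.maps_pre U) (g.toFun z hz.1) (f.mem_pre hz.2 hU) hz.2 hU]
  rw [G.stalkRes_germ g (g.maps_pre (f.pre U)) z (g.mem_pre hz.1 (f.mem_pre hz.2 hU)) hz.1 (f.mem_pre hz.2 hU)]
  rw [G.res_comp]
  exact (G.stalkRes_germ (g.comp f) _ z (g.mem_pre hz.1 (f.mem_pre hz.2 hU)) hz hU s).symm

lemma stalkRes_id {Y : Over S} (z : Y.left) (a) : G.stalkRes (PMap.id Y) z trivial a = a := by
  obtain ⟨U, hU, s, rfl⟩ := exists_germ a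
  refine (G.stalkRes_germ (PMap.id Y) (PMap.id_maps le_rfl) z hU trivial hU s).trans ?_
  rw [G.res_id le_rfl, rs_self]
  rfl

lemma stalkRes_congr {Y' Y : Over S} (f f' : PMap Y' Y) (z : Y'.left) (hz : z ∈ f.dom) (hz' : z ∈ f'.dom)
    {U' : Opens Y'.left} (hzU : z ∈ U') (h : ∀ w hw hw', w ∈ U' → f.toFun w hw = f'.toFun w hw')
    (s : ∀ y : Y.left, CohTop.stalk (G.sh Y) y) :
    G.stalkRes f z hz (s (f.toFun z hz)) = G.stalkRes f' z hz' (s (f'.toFun z hz')) := by
  have e := h z hz hz' hzU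
  obtain ⟨U, hU, t, ht⟩ := exists_germ (s (f.toFun z hz))
  have ht' : germ (G.sh Y) (f'.toFun z hz') (e ▸ hU) t = s (f'.toFun z hz') := by
    revert ht
    generalize f.toFun z hz = y at e hU ⊢
    subst e
    exact fun ht => ht
  rw [← ht, ← ht']
  have hm : f.Maps (f.pre U ⊓ f'.pre U ⊓ U') U := fun w hw => hw.1.1
  have hm' : f'.Maps (f.pre U ⊓ f'.pre U ⊓ U') U := fun w hw => hw.1.2
  have hz₀ : z ∈ f.pre U ⊓ f'.pre U ⊓ U' := ⟨⟨f.mem_pre hz hU, f'.mem_pre hz' (e ▸ hU)⟩, hzU⟩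
  rw [G.stalkRes_germ f hm z hz₀ hz hU, G.stalkRes_germ f' hm' z hz₀ hz' (e ▸ hU)]
  exact congrArg _ (G.res_congr f f' hm hm' (fun w a b hw => h w a b hw.2) t)

end Fam

/-- A morphism of families. -/
structure Fam.Hom (G H : Fam S) where
  /-- The components. -/
  app : ∀ (Y : Over S) (U : Opens Y.left), (G.sh Y).obj.obj (op U) →+ (H.sh Y).obj.obj (op U)
  natural : ∀ {Y' Y : Over S} (f : PMap Y' Y) {U' : Opens Y'.left} {U : Opens Y.left} (hf : f.Maps U' U) (x),
    app Y' U' (G.res f hf x) = H.res f hf (app Y U x)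

namespace Fam.Hom

variable {G H K : Fam S}

lemma natural_rs (φ : G.Hom H) {Y : Over S} {U V : Opens Y.left} (h : V ≤ U) (x) :
    φ.app Y V (rs (G.sh Y).obj h x) = rs (H.sh Y).obj h (φ.app Y U x) := by
  rw [← G.res_id, φ.natural, H.res_id]

/-- The morphism of sheaves. -/
def toSheafHom (φ : G.Hom H) (Y : Over S) : G.sh Y ⟶ H.sh Y :=
  ⟨{ app := fun U => AddCommGrpCat.ofHom (φ.app Y U.unop)
     naturality := fun U V i => by
      ext x
      exact φ.natural_rs (leOfHom i.unop) x }⟩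

/-- The map on stalks. -/
noncomputable def stalkMap (φ : G.Hom H) (Y : Over S) (z : Y.left) :
    CohTop.stalk (G.sh Y) z →+ CohTop.stalk (H.sh Y) z :=
  ((TopCat.Presheaf.stalkFunctor AddCommGrpCat.{u} z).map (φ.toSheafHom Y).hom).hom

lemma stalkMap_germ (φ : G.Hom H) {Y : Over S} {U : Opens Y.left} (z : Y.left) (hz : z ∈ U) (x) :
    φ.stalkMap Y z (germ (G.sh Y) z hz x) = germ (H.sh Y) z hz (φ.app Y U x) :=
  TopCat.Presheaf.stalkFunctor_map_germ_apply U z hz (φ.toSheafHom Y).hom x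

lemma stalkMap_stalkRes (φ : G.Hom H) {Y' Y : Over S} (f : PMap Y' Y) (z : Y'.left) (hz : z ∈ f.dom) (a) :
    φ.stalkMap Y' z (G.stalkRes f z hz a) = H.stalkRes f z hz (φ.stalkMap Y (f.toFun z hz) a) := by
  obtain ⟨U, hU, s, rfl⟩ := Fam.exists_germ a
  rw [G.stalkRes_germ f (f.maps_pre U) z (f.mem_pre hz hU) hz hU, φ.stalkMap_germ, φ.stalkMap_germ,
    H.stalkRes_germ f (f.maps_pre U) z (f.mem_pre hz hU) hz hU, φ.natural]

/-- Composition. -/
def comp (φ : G.Hom H) (ψ : H.Hom K) : G.Hom K where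
  app Y U := (ψ.app Y U).comp (φ.app Y U)
  natural f _ _ hf x := (congrArg _ (φ.natural f hf x)).trans (ψ.natural f hf _)

/-- Subtraction. -/
def sub (φ ψ : G.Hom H) : G.Hom H where
  app Y U := φ.app Y U - ψ.app Y U
  natural f _ _ hf x := by simp [φ.natural f hf x, ψ.natural f hf x]

end Fam.Hom

/-- The presheaf of families of germs. -/
noncomputable def godPre {X : TopCat.{u}} (F : CohTop.Ab X) : (Opens X)ᵒᵖ ⥤ AddCommGrpCat.{u} where
  obj U := AddCommGrpCat.of (∀ x : U.unop, CohTop.stalk F x.1)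
  map {U V} i := AddCommGrpCat.ofHom
    { toFun := fun s x => s ⟨x.1, leOfHom i.unop x.2⟩
      map_zero' := rfl
      map_add' := fun _ _ => rfl }

lemma isSheaf_godPre {X : TopCat.{u}} (F : CohTop.Ab X) : TopCat.Presheaf.IsSheaf (godPre F) := by
  rw [TopCat.Presheaf.isSheaf_iff_isSheafUniqueGluing]
  intro ι U sf hsf
  choose i hi using fun x : ↥(iSup U) => Opens.mem_iSup.mp x.2
  have key : ∀ (j k : ι) (x : X) (hj : x ∈ U j) (hk : x ∈ U k),
      (sf j : ∀ x : U j, CohTop.stalk F x.1) ⟨x, hj⟩ = (sf k : ∀ x : U k, CohTop.stalk F x.1) ⟨x, hk⟩ :=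
    fun j k x hj hk => congrFun (hsf j k) ⟨x, hj, hk⟩
  refine ⟨fun x => (sf (i x) : ∀ y : U (i x), CohTop.stalk F y.1) ⟨x.1, hi x⟩, ?_, ?_⟩
  · intro j
    funext x
    exact key _ j x.1 _ x.2
  · intro s hs
    funext x
    exact congrFun (hs (i x)) ⟨x.1, hi x⟩

/-- The sheaf of families of germs. -/
noncomputable def god {X : TopCat.{u}} (F : CohTop.Ab X) : CohTop.Ab X := ⟨godPre F, isSheaf_godPre F⟩

lemma isFlasque_god {X : TopCat.{u}} (F : CohTop.Ab X) : TopCat.Sheaf.IsFlasque (god F) where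
  epi {U V} i := by
    rw [AddCommGrpCat.epi_iff_surjective]
    intro (s : ∀ x : V.unop, CohTop.stalk F x.1)
    classical
    exact ⟨fun x => if h : x.1 ∈ V.unop then s ⟨x.1, h⟩ else 0, funext fun x => dif_pos x.2⟩

namespace Fam

open scoped Classical in
/-- Extend a family of germs by zero. -/
noncomputable def ext0 {X : TopCat.{u}} {F : CohTop.Ab X} {U : Opens X}
    (s : ∀ x : U, CohTop.stalk F x.1) (x : X) : CohTop.stalk F x := if h : x ∈ U then s ⟨x, h⟩ else 0

lemma ext0_pos {X : TopCat.{u}} {F : CohTop.Ab X} {U : Opens X}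
    (s : ∀ x : U, CohTop.stalk F x.1) {x : X} (h : x ∈ U) : ext0 s x = s ⟨x, h⟩ := dif_pos h

/-- The Godement construction on families. -/
noncomputable def C (G : Fam S) : Fam S where
  sh Y := god (G.sh Y)
  res {Y' Y} f {U' U} hf :=
    { toFun := fun s z => G.stalkRes f z.1 (hf z.1 z.2).1 (s ⟨f.toFun z.1 (hf z.1 z.2).1, (hf z.1 z.2).2⟩)
      map_zero' := funext fun z => map_zero _
      map_add' := fun _ _ => funext fun z => map_add _ _ _ }
  res_comp {Y'' Y' Y} g f {U'' U' U} hg hf x := funext fun z => G.stalkRes_comp g f z.1 _ _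
  res_id {Y U' U} h x := funext fun z => G.stalkRes_id z.1 _
  res_congr {Y' Y} f f' {U' U} hf hf' h x := funext fun z => by
    have := G.stalkRes_congr f f' z.1 (hf z.1 z.2).1 (hf' z.1 z.2).1 z.2 h
      (ext0 (show ∀ x : U, CohTop.stalk (G.sh Y) x.1 from x))
    rw [ext0_pos _ (hf z.1 z.2).2, ext0_pos _ (hf' z.1 z.2).2] at this
    exact this

/-- Functoriality of the Godement construction. -/
noncomputable def Cmap {G H : Fam S} (φ : G.Hom H) : G.C.Hom H.C where
  app Y U :=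
    { toFun := fun s z => φ.stalkMap Y z.1 (s z)
      map_zero' := funext fun z => map_zero _
      map_add' := fun _ _ => funext fun z => map_add _ _ _ }
  natural f _ _ hf x := funext fun z => φ.stalkMap_stalkRes f z.1 _ _

/-- The unit. -/
noncomputable def η (G : Fam S) : G.Hom G.C where
  app Y U :=
    { toFun := fun s z => germ (G.sh Y) z.1 z.2 s
      map_zero' := funext fun z => map_zero _
      map_add' := fun _ _ => funext fun z => map_add _ _ _ }
  natural {Y' Y} f {U' U} hf x := funext fun z => (G.stalkRes_germ f hf z.1 z.2 _ _ x).symm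

lemma η_natural {G H : Fam S} (φ : G.Hom H) (Y : Over S) (U : Opens Y.left) (x) :
    (Cmap φ).app Y U (G.η.app Y U x) = H.η.app Y U (φ.app Y U x) :=
  funext fun z => φ.stalkMap_germ z.1 z.2 x

/-- The cocone of evaluation at a point. -/
noncomputable def evalCocone (G : Fam S) (Y : Over S) (z : Y.left) :
    Cocone ((OpenNhds.inclusion z).op ⋙ (G.C.sh Y).obj) where
  pt := CohTop.stalk (G.sh Y) z
  ι :=
    { app := fun V => AddCommGrpCat.ofHom
        { toFun := fun s => (s : ∀ x : V.unop.1, CohTop.stalk (G.sh Y) x.1) ⟨z, V.unop.2⟩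
          map_zero' := rfl
          map_add' := fun _ _ => rfl }
      naturality := fun V W i => rfl }

/-- Evaluation at a point. -/
noncomputable def eval (G : Fam S) (Y : Over S) (z : Y.left) :
    CohTop.stalk (G.C.sh Y) z →+ CohTop.stalk (G.sh Y) z :=
  (colimit.desc _ (G.evalCocone Y z)).hom

lemma eval_germ (G : Fam S) {Y : Over S} {U : Opens Y.left} (z : Y.left) (hz : z ∈ U)
    (s : (G.C.sh Y).obj.obj (op U)) :
    G.eval Y z (germ (G.C.sh Y) z hz s) = (s : ∀ x : U, CohTop.stalk (G.sh Y) x.1) ⟨z, hz⟩ :=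
  ConcreteCategory.congr_hom (colimit.ι_desc (G.evalCocone Y z) (op ⟨U, hz⟩)) s

lemma eval_η (G : Fam S) (Y : Over S) (z : Y.left) (a) : G.eval Y z (G.η.stalkMap Y z a) = a := by
  obtain ⟨U, hU, s, rfl⟩ := exists_germ a
  rw [Hom.stalkMap_germ, eval_germ]
  rfl

lemma eval_Cmap {G H : Fam S} (φ : G.Hom H) (Y : Over S) (z : Y.left) (a) :
    H.eval Y z ((Cmap φ).stalkMap Y z a) = φ.stalkMap Y z (G.eval Y z a) := by
  obtain ⟨U, hU, s, rfl⟩ := exists_germ a
  rw [Hom.stalkMap_germ, eval_germ, eval_germ]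
  rfl

/-- The augmented Godement resolution: `A 0 = G` and `A (k + 1)` is flasque. -/
noncomputable def A (G : Fam S) : ℕ → Fam S
  | 0 => G
  | k + 1 => (A G k).C

/-- The differential of the augmented Godement resolution. -/
noncomputable def dA (G : Fam S) : ∀ k, (G.A k).Hom (G.A (k + 1))
  | 0 => G.η
  | k + 1 => (G.A (k + 1)).η.sub (Cmap (G.dA k))

lemma dA_succ_apply (G : Fam S) (k : ℕ) (Y : Over S) (U : Opens Y.left) (x) :
    (G.dA (k + 1)).app Y U x = (G.A (k + 1)).η.app Y U x - (Cmap (G.dA k)).app Y U x := rfl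

lemma dA_dA (G : Fam S) : ∀ (k : ℕ) (Y : Over S) (U : Opens Y.left) (x),
    (G.dA (k + 1)).app Y U ((G.dA k).app Y U x) = 0
  | 0, Y, U, x => by
    rw [dA_succ_apply]
    exact sub_eq_zero.mpr (η_natural G.η Y U x).symm
  | k + 1, Y, U, x => by
    rw [dA_succ_apply, ← η_natural (G.dA (k + 1))]
    refine funext fun z => ?_
    show (G.dA (k + 1)).stalkMap Y z.1 _ - (G.dA (k + 1)).stalkMap Y z.1 _ = 0
    rw [dA_succ_apply, ← map_sub]
    have e : ((G.A (k + 1)).η.app Y U x : ∀ x : U, CohTop.stalk _ x.1) z -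
        (((G.A (k + 1)).η.app Y U x - (Cmap (G.dA k)).app Y U x : _) : ∀ x : U, CohTop.stalk _ x.1) z =
        (G.dA k).stalkMap Y z.1 ((x : ∀ x : U, CohTop.stalk (G.A k |>.sh Y) x.1) z) := sub_sub_cancel _ _
    rw [e]
    generalize (x : ∀ x : U, CohTop.stalk (G.A k |>.sh Y) x.1) z = a
    obtain ⟨V, hV, t, rfl⟩ := exists_germ a
    rw [Hom.stalkMap_germ, Hom.stalkMap_germ, dA_dA G k Y V t, map_zero]

lemma isFlasque_A (G : Fam S) (k : ℕ) (Y : Over S) : TopCat.Sheaf.IsFlasque ((G.A (k + 1)).sh Y) :=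
  isFlasque_god _

lemma eq_zero_of_dA_zero (G : Fam S) {Y : Over S} {U : Opens Y.left} (x : (G.sh Y).obj.obj (op U))
    (hx : (G.dA 0).app Y U x = 0) : x = 0 :=
  eq_of_germ_eq (G.sh Y) fun z hz =>
    (congrFun hx ⟨z, hz⟩ : germ (G.sh Y) z hz x = 0).trans (map_zero _).symm

lemma exists_near_preimage (G : Fam S) (k : ℕ) {Y : Over S} {U : Opens Y.left} (x)
    (hx : (G.dA (k + 1)).app Y U x = 0) (z : Y.left) (hz : z ∈ U) :
    ∃ (V : Opens Y.left) (hV : V ≤ U) (y : _), z ∈ V ∧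
      (G.dA k).app Y V y = rs ((G.A (k + 1)).sh Y).obj hV x := by
  obtain ⟨W, hW, y, hy⟩ := exists_germ ((G.A k).eval Y z (germ ((G.A k).C.sh Y) z hz x))
  have h0 : (G.dA (k + 1)).stalkMap Y z (germ ((G.A (k + 1)).sh Y) z hz x) = 0 := by
    rw [Hom.stalkMap_germ, hx, map_zero]
  have e : (G.dA k).stalkMap Y z (germ ((G.A k).sh Y) z hW y) = germ ((G.A (k + 1)).sh Y) z hz x := by
    rw [hy, ← eval_Cmap (G.dA k)]
    have h1 := (G.A (k + 1)).eval_η Y z (germ ((G.A (k + 1)).sh Y) z hz x)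
    have h3 : germ ((G.A (k + 1 + 1)).sh Y) z hz ((G.A (k + 1)).η.app Y U x) =
        germ ((G.A (k + 1 + 1)).sh Y) z hz ((Cmap (G.dA k)).app Y U x) := by
      refine sub_eq_zero.mp ?_
      refine (map_sub (germ ((G.A (k + 1 + 1)).sh Y) z hz) _ _).symm.trans ?_
      exact ((G.dA (k + 1)).stalkMap_germ z hz x).symm.trans h0
    have h4 := congrArg ((G.A (k + 1)).eval Y z) h3
    refine Eq.trans ?_ h1
    exact (congrArg ((G.A (k + 1)).eval Y z) ((Cmap (G.dA k)).stalkMap_germ z hz x)).trans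
      (h4.symm.trans (congrArg ((G.A (k + 1)).eval Y z) ((G.A (k + 1)).η.stalkMap_germ z hz x).symm))
  rw [Hom.stalkMap_germ] at e
  obtain ⟨V, hV, i₁, i₂, h⟩ := TopCat.Presheaf.germ_eq _ z hW hz _ _ e
  exact ⟨V, leOfHom i₂, rs _ (leOfHom i₁) y, hV, (Hom.natural_rs _ (leOfHom i₁) y).trans h⟩

end Fam

end Groth.Agent.Desc49
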