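import Groth.Agent.TopCoh49.PullMap

/-!
Flasque resolutions compute cohomology, compatibly with pullback.
-/

universe u

open CategoryTheory Limits TopologicalSpace Opposite
open Groth.Agent.TopCoh49

namespace Groth.Agent.Desc49

variable {X Z : TopCat.{u}}

/-- A morphism of sheaves on sections. -/
noncomputable abbrev ap {F G : CohTop.Ab X} (φ : F ⟶ G) (U : Opens X) :
    F.obj.obj (op U) →+ G.obj.obj (op U) :=
  (φ.hom.app (op U)).hom

lemma ap_rs {F G : CohTop.Ab X} (φ : F ⟶ G) {U V : Opens X} (h : V ≤ U) (s : F.obj.obj (op U)) :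
    ap φ V (rs F.obj h s) = rs G.obj h (ap φ U s) :=
  ConcreteCategory.congr_hom (φ.hom.naturality (homOfLE h).op) s

lemma ap_comp {F G H : CohTop.Ab X} (φ : F ⟶ G) (ψ : G ⟶ H) (U : Opens X) (s : F.obj.obj (op U)) :
    ap (φ ≫ ψ) U s = ap ψ U (ap φ U s) := rfl

lemma hom_ext_ap {F G : CohTop.Ab X} {φ ψ : F ⟶ G} (h : ∀ U s, ap φ U s = ap ψ U s) : φ = ψ :=
  CategoryTheory.Sheaf.hom_ext (NatTrans.ext (funext fun U => AddCommGrpCat.ext fun s => h U.unop s))

lemma ap_injective {F G : CohTop.Ab X} (φ : F ⟶ G) [Mono φ] (U : Opens X) : Function.Injective (ap φ U) := by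
  have h1 : Mono φ.hom := (sheafToPresheaf _ _).map_mono φ
  have h2 : Mono (φ.hom.app (op U)) := inferInstance
  exact (AddCommGrpCat.mono_iff_injective _).mp h2

lemma mono_of_ap_injective {F G : CohTop.Ab X} (φ : F ⟶ G) (h : ∀ U, Function.Injective (ap φ U)) :
    Mono φ :=
  ⟨fun a b e => hom_ext_ap fun U s => h U (congrArg (fun ρ => ap ρ U s) e)⟩

lemma epi_of_local_preimage {F G : CohTop.Ab X} (φ : F ⟶ G)
    (h : ∀ (U : Opens X) (s : G.obj.obj (op U)) (x : X), x ∈ U →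
      ∃ (V : Opens X) (hV : V ≤ U) (t : F.obj.obj (op V)), x ∈ V ∧ ap φ V t = rs G.obj hV s) : Epi φ := by
  refine (Sheaf.isLocallySurjective_iff_epi' AddCommGrpCat.{u} φ).mp
    ((TopCat.Presheaf.isLocallySurjective_iff φ.hom).mpr fun U s x hx => ?_)
  obtain ⟨V, hV, t, hxV, ht⟩ := h U s x hx
  exact ⟨V, hV, ⟨t, ht⟩, hxV⟩

lemma exists_lift_kernel {F G : CohTop.Ab X} (φ : F ⟶ G) (U : Opens X) (s : F.obj.obj (op U))
    (hs : ap φ U s = 0) : ∃ t, ap (kernel.ι φ) U t = s := by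
  have hw : (freeHomEquiv U F).symm s ≫ φ = 0 := by
    apply (freeHomEquiv U G).injective
    rw [freeHomEquiv_comp, Equiv.apply_symm_apply]
    exact hs.trans ((freeHomAddEquiv U G).map_zero).symm
  refine ⟨freeHomEquiv U _ (kernel.lift φ _ hw), ?_⟩
  refine (freeHomEquiv_comp U _ (kernel.ι φ)).symm.trans ?_
  rw [kernel.lift_ι, Equiv.apply_symm_apply]

/-- A flasque resolution, on sections. -/
structure FRes (F : CohTop.Ab X) where
  /-- The terms. -/
  K : ℕ → CohTop.Ab X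
  flasque : ∀ n, TopCat.Sheaf.IsFlasque (K n)
  /-- The differential. -/
  d : ∀ n, K n ⟶ K (n + 1)
  /-- The augmentation. -/
  ε : F ⟶ K 0
  inj : ∀ U, Function.Injective (ap ε U)
  ε_d : ∀ U s, ap (d 0) U (ap ε U s) = 0
  d_d : ∀ n U s, ap (d (n + 1)) U (ap (d n) U s) = 0
  exact₀ : ∀ (U : Opens X) (s : (K 0).obj.obj (op U)), ap (d 0) U s = 0 → ∀ x ∈ U,
    ∃ (V : Opens X) (hV : V ≤ U) (t : F.obj.obj (op V)), x ∈ V ∧ ap ε V t = rs (K 0).obj hV s
  exactS : ∀ (n : ℕ) (U : Opens X) (s : (K (n + 1)).obj.obj (op U)), ap (d (n + 1)) U s = 0 → ∀ x ∈ U,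
    ∃ (V : Opens X) (hV : V ≤ U) (t : (K n).obj.obj (op V)), x ∈ V ∧ ap (d n) V t = rs (K (n + 1)).obj hV s

namespace FRes

variable {F : CohTop.Ab X} (R : FRes F)

lemma d_comp_d (n : ℕ) : R.d n ≫ R.d (n + 1) = 0 := hom_ext_ap fun U s => R.d_d n U s

/-- The first cycles. -/
noncomputable def Z1 : CohTop.Ab X := kernel (R.d 1)

/-- The map onto the first cycles. -/
noncomputable def g : R.K 0 ⟶ R.Z1 := kernel.lift (R.d 1) (R.d 0) (R.d_comp_d 0)

/-- The inclusion of the first cycles. -/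
noncomputable def ι : R.Z1 ⟶ R.K 1 := kernel.ι (R.d 1)

instance : Mono R.ι := by
  show Mono (equalizer.ι (R.d 1) 0)
  exact equalizer.ι_mono

lemma g_ι (U : Opens X) (s : (R.K 0).obj.obj (op U)) : ap R.ι U (ap R.g U s) = ap (R.d 0) U s :=
  congrArg (fun ρ => ap ρ U s) (kernel.lift_ι (R.d 1) (R.d 0) (R.d_comp_d 0))

lemma ι_d (U : Opens X) (s : R.Z1.obj.obj (op U)) : ap (R.d 1) U (ap R.ι U s) = 0 :=
  congrArg (fun ρ => ap ρ U s) (kernel.condition (R.d 1))

lemma exists_ι (U : Opens X) (s : (R.K 1).obj.obj (op U)) (hs : ap (R.d 1) U s = 0) :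
    ∃ t, ap R.ι U t = s := exists_lift_kernel (R.d 1) U s hs

/-- The shifted resolution. -/
noncomputable def shift : FRes R.Z1 where
  K n := R.K (n + 1)
  flasque n := R.flasque (n + 1)
  d n := R.d (n + 1)
  ε := R.ι
  inj U := ap_injective R.ι U
  ε_d := R.ι_d
  d_d n := R.d_d (n + 1)
  exact₀ U s hs x hx := by
    obtain ⟨t, ht⟩ := R.exists_ι U s hs
    exact ⟨U, le_rfl, t, hx, by rw [rs_self]; exact ht⟩
  exactS n := R.exactS (n + 1)

lemma ε_g : R.ε ≫ R.g = 0 :=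
  hom_ext_ap fun U s => ap_injective R.ι U (((R.g_ι U _).trans (R.ε_d U s)).trans (map_zero (ap R.ι U)).symm)

/-- The first short exact sequence of the resolution. -/
noncomputable def ses : ShortComplex (CohTop.Ab X) := ShortComplex.mk R.ε R.g R.ε_g

lemma ses_shortExact : R.ses.ShortExact := by
  have : Mono R.ses.f := mono_of_ap_injective R.ε R.inj
  have : Epi R.ses.g := epi_of_local_preimage R.g fun U s x hx => by
    obtain ⟨V, hV, t, hxV, ht⟩ := R.exactS 0 U (ap R.ι U s) (R.ι_d U s) x hx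
    refine ⟨V, hV, t, hxV, ap_injective R.ι V ?_⟩
    rw [R.g_ι, ap_rs]
    exact ht
  refine { exact := ?_ }
  rw [ShortComplex.exact_iff_epi_kernel_lift]
  refine epi_of_local_preimage _ fun U s x hx => ?_
  have h0 : ap (R.d 0) U (ap (kernel.ι R.g) U s) = 0 := by
    refine (R.g_ι U _).symm.trans ?_
    exact (congrArg (ap R.ι U) (congrArg (fun ρ => ap ρ U s) (kernel.condition R.ses.g))).trans (map_zero _)
  obtain ⟨V, hV, t, hxV, ht⟩ := R.exact₀ U _ h0 x hx
  refine ⟨V, hV, t, hxV, ap_injective (kernel.ι R.g) V ?_⟩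
  refine Eq.trans ?_ (ap_rs (kernel.ι R.g) hV s).symm
  refine Eq.trans ?_ ht
  exact congrArg (fun ρ => ap ρ V t) (kernel.lift_ι R.g R.ε R.ε_g)

/-- The cycles over an open. -/
noncomputable abbrev cyc (U : Opens X) (q : ℕ) : AddSubgroup ((R.K q).obj.obj (op U)) := (ap (R.d q) U).ker

lemma exists_ε (U : Opens X) (s : R.cyc U 0) : ∃ t, ap R.ε U t = s.1 := by
  obtain ⟨y, hy⟩ := exact₂ R.ses_shortExact 0 U ((E₀ (R.K 0) U).symm s.1) ((E₀ R.Z1 U).injective (by
    refine (E₀_emap R.g U _).trans ?_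
    rw [AddEquiv.apply_symm_apply]
    refine Eq.trans ?_ (map_zero (E₀ R.Z1 U)).symm
    exact ap_injective R.ι U (((R.g_ι U s.1).trans s.2).trans (map_zero (ap R.ι U)).symm)))
  refine ⟨E₀ F U y, ((E₀_emap R.ε U y).symm.trans (congrArg (E₀ (R.K 0) U) hy)).trans ?_⟩
  exact AddEquiv.apply_symm_apply _ _

lemma exists_shift_ε (U : Opens X) (s : R.cyc U 1) : ∃ t, ap R.shift.ε U t = s.1 := R.exists_ι U s.1 s.2

/-- The class of a section which lifts along the augmentation. -/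
noncomputable def θ₀ (U : Opens X) : R.cyc U 0 →+ E F 0 U :=
  AddMonoidHom.mk' (fun s => (E₀ F U).symm (R.exists_ε U s).choose) fun s t => by
    rw [← map_add]
    refine congrArg _ (R.inj U ?_)
    rw [map_add, (R.exists_ε U _).choose_spec, (R.exists_ε U _).choose_spec, (R.exists_ε U _).choose_spec]
    rfl

lemma ap_θ₀ (U : Opens X) (s : R.cyc U 0) : ap R.ε U (E₀ F U (R.θ₀ U s)) = s.1 :=
  (congrArg (ap R.ε U) (AddEquiv.apply_symm_apply _ _)).trans (R.exists_ε U s).choose_spec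

/-- The class of a cycle. -/
noncomputable def θ : ∀ (q : ℕ) {F : CohTop.Ab X} (R : FRes F) (U : Opens X), R.cyc U q →+ E F q U
  | 0, _, R, U => R.θ₀ U
  | q + 1, _, R, U => (δ R.ses_shortExact (rfl : q + 1 = q + 1) U).comp (θ q R.shift U)

lemma θ_succ (q : ℕ) (U : Opens X) (s : R.cyc U (q + 1)) :
    θ (q + 1) R U s = δ R.ses_shortExact (rfl : q + 1 = q + 1) U (θ q R.shift U s) := rfl

lemma θ_surjective : ∀ (q : ℕ) {F : CohTop.Ab X} (R : FRes F) (U : Opens X),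
    Function.Surjective (θ q R U) := by
  intro q
  induction q with
  | zero =>
    intro F R U y
    refine ⟨⟨ap R.ε U (E₀ F U y), R.ε_d U _⟩, (E₀ F U).injective (R.inj U ?_)⟩
    exact R.ap_θ₀ U ⟨ap R.ε U (E₀ F U y), R.ε_d U _⟩
  | succ q ih =>
    intro F R U y
    have := R.flasque 0
    obtain ⟨z, hz⟩ := exact₁ R.ses_shortExact (rfl : q + 1 = q + 1) U y
      ((subsingleton_E_of_isFlasque q (R.K 0) U).elim _ _)
    obtain ⟨s, rfl⟩ := ih R.shift U z
    exact ⟨s, hz⟩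

lemma θ_zero_iff (U : Opens X) (s : R.cyc U 0) : θ 0 R U s = 0 ↔ s.1 = 0 := by
  refine ⟨fun h => ?_, fun h => ?_⟩
  · rw [← R.ap_θ₀ U s, show R.θ₀ U s = 0 from h, map_zero, map_zero]
  · refine (E₀ F U).injective (R.inj U ((R.ap_θ₀ U s).trans ?_))
    rw [h, map_zero, map_zero]

lemma θ_succ_eq_zero_iff : ∀ (q : ℕ) {F : CohTop.Ab X} (R : FRes F) (U : Opens X) (s : R.cyc U (q + 1)),
    θ (q + 1) R U s = 0 ↔ ∃ y, ap (R.d q) U y = s.1 := by
  intro q
  induction q with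
  | zero =>
    intro F R U s
    rw [θ_succ]
    refine ⟨fun h => ?_, fun ⟨y, hy⟩ => ?_⟩
    · obtain ⟨y, hy⟩ := exact₃ R.ses_shortExact (rfl : 0 + 1 = 0 + 1) U _ h
      refine ⟨E₀ (R.K 0) U y, (R.g_ι U _).symm.trans ?_⟩
      refine (congrArg (ap R.ι U) ((E₀_emap R.g U y).symm.trans (congrArg (E₀ R.Z1 U) hy))).trans ?_
      exact R.shift.ap_θ₀ U s
    · have e : θ 0 R.shift U s = emap R.g 0 U ((E₀ (R.K 0) U).symm y) := by
        refine (E₀ R.Z1 U).injective (ap_injective R.ι U ((R.shift.ap_θ₀ U s).trans ?_))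
        rw [E₀_emap, AddEquiv.apply_symm_apply]
        exact hy.symm.trans (R.g_ι U y).symm
      rw [e]
      exact δ_emap_g R.ses_shortExact rfl U _
  | succ q ih =>
    intro F R U s
    rw [θ_succ]
    refine (map_eq_zero_iff _ ?_).trans (ih R.shift U s)
    have := R.flasque 0
    refine (injective_iff_map_eq_zero _).mpr fun x hx => ?_
    obtain ⟨y, rfl⟩ := exact₃ R.ses_shortExact (rfl : q + 1 + 1 = q + 1 + 1) U x hx
    exact (congrArg _ ((subsingleton_E_of_isFlasque q (R.K 0) U).elim y 0)).trans (map_zero _)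

lemma rs_mem_cyc {q : ℕ} {U V : Opens X} (h : V ≤ U) (s : R.cyc U q) :
    rs (R.K q).obj h s.1 ∈ R.cyc V q :=
  (ap_rs (R.d q) h s.1).trans ((congrArg _ s.2).trans (map_zero _))

lemma eres_θ : ∀ (q : ℕ) {F : CohTop.Ab X} (R : FRes F) {U V : Opens X} (h : V ≤ U) (s : R.cyc U q),
    eres F q h (θ q R U s) = θ q R V ⟨rs (R.K q).obj h s.1, R.rs_mem_cyc h s⟩ := by
  intro q
  induction q with
  | zero =>
    intro F R U V h s
    refine (E₀ F V).injective (R.inj V ?_)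
    refine Eq.trans ?_ (R.ap_θ₀ V ⟨rs (R.K 0).obj h s.1, R.rs_mem_cyc h s⟩).symm
    refine (congrArg (ap R.ε V) (E₀_eres F h _)).trans ((ap_rs R.ε h _).trans ?_)
    exact congrArg (rs (R.K 0).obj h) (R.ap_θ₀ U s)
  | succ q ih =>
    intro F R U V h s
    refine (eres_δ R.ses_shortExact (rfl : q + 1 = q + 1) h _).trans ?_
    exact congrArg (δ R.ses_shortExact (rfl : q + 1 = q + 1) V) (ih R.shift h s)

/-- Compatibility of `θ` with pullback. -/
theorem θ_pull (i : Z ⟶ X) : ∀ (q : ℕ) {F : CohTop.Ab X} (R : FRes F) {F' : CohTop.Ab Z} (R' : FRes F')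
    (a : (CohTop.pull i).obj F ⟶ F') (b : ∀ n, (CohTop.pull i).obj (R.K n) ⟶ R'.K n)
    (_hε : (CohTop.pull i).map R.ε ≫ b 0 = a ≫ R'.ε)
    (_hd : ∀ n, (CohTop.pull i).map (R.d n) ≫ b (n + 1) = b n ≫ R'.d n)
    {U : Opens X} {W : Opens Z} (h : W ≤ (Opens.map i).obj U) (s : R.cyc U q) (t : R'.cyc W q)
    (_ht : t.1 = ap (b q) W (rs _ h ((unitPre i (R.K q)).app (op U) s.1))),
    θ q R' W t = emap a q W (pullE i F q h (θ q R U s)) := by
  intro q
  induction q with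
  | zero =>
    intro F R F' R' a b hε hd U W h s t ht
    refine (E₀ F' W).injective (R'.inj W ((R'.ap_θ₀ W t).trans (ht.trans ?_)))
    rw [E₀_emap, E₀_pullE]
    refine Eq.trans ?_ (congrArg (fun ρ => ap ρ W (rs _ h ((unitPre i F).app (op U) (E₀ F U (θ 0 R U s))))) hε)
    refine congrArg (ap (b 0) W) ?_
    refine Eq.trans ?_ (ap_rs ((CohTop.pull i).map R.ε) h _).symm
    refine congrArg (rs _ h) ?_
    refine Eq.trans ?_ (unitPre_app_map i R.ε U _).symm
    exact congrArg _ (R.ap_θ₀ U s).symm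
  | succ q ih =>
    intro F R F' R' a b hε hd U W h s t ht
    have hw : ((CohTop.pull i).map R.ι ≫ b 1) ≫ R'.d 1 = 0 := by
      rw [Category.assoc, ← hd 1, ← Category.assoc, ← Functor.map_comp]
      rw [show R.ι ≫ R.d 1 = 0 from kernel.condition _, Functor.map_zero, zero_comp]
    let c : (CohTop.pull i).obj R.Z1 ⟶ R'.Z1 := kernel.lift _ ((CohTop.pull i).map R.ι ≫ b 1) hw
    have hc : c ≫ R'.ι = (CohTop.pull i).map R.ι ≫ b 1 := kernel.lift_ι _ _ _
    have hg : (CohTop.pull i).map R.g ≫ c = b 0 ≫ R'.g := by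
      rw [← cancel_mono R'.ι, Category.assoc, hc, Category.assoc,
        show R'.g ≫ R'.ι = R'.d 0 from kernel.lift_ι _ _ _, ← hd 0, ← Category.assoc, ← Functor.map_comp,
        show R.g ≫ R.ι = R.d 0 from kernel.lift_ι _ _ _]
    have e1 := ih R.shift R'.shift c (fun n => b (n + 1)) hc.symm (fun n => hd (n + 1)) h s t ht
    let φ : (R.ses.map (CohTop.pull i)) ⟶ R'.ses :=
      { τ₁ := a, τ₂ := b 0, τ₃ := c, comm₁₂ := hε.symm, comm₂₃ := hg.symm }
    rw [θ_succ, θ_succ, e1]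
    refine Eq.trans ?_ (congrArg (emap a (q + 1) W)
      (pullE_δ i R.ses_shortExact (rfl : q + 1 = q + 1) h (θ q R.shift U s)).symm)
    exact (emap_δ (pull_shortExact i R.ses_shortExact) R'.ses_shortExact φ rfl W _).symm

end FRes

end Groth.Agent.Desc49
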