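import Groth.Agent.Desc49.Fam

/-!
A concrete, strictly functorial model of the inverse images of a sheaf on the base.
-/

universe u

open CategoryTheory Limits TopologicalSpace Opposite
open Groth.Agent.TopCoh49

namespace Groth.Agent.Desc49

variable {S : TopCat.{u}} (F : CohTop.Ab S)

/-- Families of germs of `F` along the structure map, locally induced by a section of `F`. -/
def mdlSec (Y : Over S) (U : Opens Y.left) :
    AddSubgroup (∀ (z : U) (x : {x : S // Y.hom z.1 = x}), CohTop.stalk F x.1) where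
  carrier := {s | ∀ z (_ : z ∈ U), ∃ (V : Opens Y.left) (hV : V ≤ U) (W : Opens S) (t : F.obj.obj (op W)),
    z ∈ V ∧ ∀ w (hw : w ∈ V) x (hx : Y.hom w = x), ∃ hxW : x ∈ W, s ⟨w, hV hw⟩ ⟨x, hx⟩ = germ F x hxW t}
  zero_mem' z hz := ⟨U ⊓ (Opens.map Y.hom).obj ⊤, inf_le_left, ⊤, 0, ⟨hz, trivial⟩,
    fun w hw x hx => ⟨trivial, (map_zero _).symm⟩⟩
  add_mem' {s s'} hs hs' z hz := by
    obtain ⟨V, hV, W, t, hzV, ht⟩ := hs z hz
    obtain ⟨V', hV', W', t', hzV', ht'⟩ := hs' z hz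
    refine ⟨V ⊓ V', inf_le_left.trans hV, W ⊓ W',
      rs F.obj (inf_le_left : W ⊓ W' ≤ W) t + rs F.obj (inf_le_right : W ⊓ W' ≤ W') t', ⟨hzV, hzV'⟩,
      fun w hw x hx => ?_⟩
    obtain ⟨a, e⟩ := ht w hw.1 x hx
    obtain ⟨a', e'⟩ := ht' w hw.2 x hx
    have hx' : x ∈ W ⊓ W' := ⟨a, a'⟩
    refine ⟨hx', Eq.trans ?_ (map_add (germ F x hx') _ _).symm⟩
    exact congrArg₂ (· + ·) (e.trans (germ_rs F inf_le_left x hx' t).symm)
      (e'.trans (germ_rs F inf_le_right x hx' t').symm)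
  neg_mem' {s} hs z hz := by
    obtain ⟨V, hV, W, t, hzV, ht⟩ := hs z hz
    refine ⟨V, hV, W, -t, hzV, fun w hw x hx => ?_⟩
    obtain ⟨a, e⟩ := ht w hw x hx
    refine ⟨a, ?_⟩
    rw [map_neg, ← e]
    rfl

/-- Restriction along a partial map. -/
def mdlRes {Y' Y : Over S} (f : PMap Y' Y) {U' : Opens Y'.left} {U : Opens Y.left} (hf : f.Maps U' U) :
    mdlSec F Y U →+ mdlSec F Y' U' where
  toFun s := ⟨fun z x => s.1 ⟨f.toFun z.1 (hf z.1 z.2).1, (hf z.1 z.2).2⟩ ⟨x.1, (f.over z.1 _).trans x.2⟩,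
    fun z hz => by
      obtain ⟨V, hV, W, t, hzV, ht⟩ := s.2 _ (hf z hz).2
      exact ⟨f.pre V ⊓ U', inf_le_right, W, t, ⟨f.mem_pre _ hzV, hz⟩,
        fun w hw x hx => ht _ hw.1.2 x ((f.over w _).trans hx)⟩⟩
  map_zero' := rfl
  map_add' _ _ := rfl

/-- The presheaf of the model. -/
noncomputable def mdlPre (Y : Over S) : (Opens Y.left)ᵒᵖ ⥤ AddCommGrpCat.{u} where
  obj U := AddCommGrpCat.of (mdlSec F Y U.unop)
  map {U V} i := AddCommGrpCat.ofHom (mdlRes F (PMap.id Y) (PMap.id_maps (leOfHom i.unop)))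

lemma isSheaf_mdlPre (Y : Over S) : TopCat.Presheaf.IsSheaf (mdlPre F Y) := by
  rw [TopCat.Presheaf.isSheaf_iff_isSheafUniqueGluing]
  intro ι U sf hsf
  choose i hi using fun x : ↥(iSup U) => Opens.mem_iSup.mp x.2
  let sf' : ∀ j, mdlSec F Y (U j) := sf
  have key : ∀ (j k : ι) (z : Y.left) (hj : z ∈ U j) (hk : z ∈ U k) x hx,
      (sf' j).1 ⟨z, hj⟩ ⟨x, hx⟩ = (sf' k).1 ⟨z, hk⟩ ⟨x, hx⟩ :=
    fun j k z hj hk x hx => congrFun (congrFun
      (congrArg Subtype.val (hsf j k)) ⟨z, hj, hk⟩) ⟨x, hx⟩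
  refine ⟨(⟨fun z x => (sf' (i ⟨z.1, z.2⟩)).1 ⟨z.1, hi ⟨z.1, z.2⟩⟩ ⟨x.1, x.2⟩, fun z hz => ?_⟩ :
    mdlSec F Y (iSup U)), ?_, ?_⟩
  · obtain ⟨V, hV, W, t, hzV, ht⟩ := (sf' (i ⟨z, hz⟩)).2 z (hi ⟨z, hz⟩)
    refine ⟨V, hV.trans (le_iSup U _), W, t, hzV, fun w hw x hx => ?_⟩
    obtain ⟨a, e⟩ := ht w hw x hx
    exact ⟨a, (key (i ⟨w, le_iSup U _ (hV hw)⟩) (i ⟨z, hz⟩) w (hi _) (hV hw) x hx).trans e⟩
  · intro j
    refine Subtype.ext (funext fun ⟨z, hz⟩ => funext fun ⟨x, hx⟩ => ?_)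
    exact key (i ⟨z, le_iSup U j hz⟩) j z (hi _) hz x hx
  · intro s hs
    refine Subtype.ext (funext fun ⟨z, hz⟩ => funext fun ⟨x, hx⟩ => ?_)
    exact congrFun (congrFun (congrArg Subtype.val (hs (i ⟨z, hz⟩))) ⟨z, hi ⟨z, hz⟩⟩) ⟨x, hx⟩

/-- The family of inverse images of `F`. -/
noncomputable def mdl : Fam S where
  sh Y := ⟨mdlPre F Y, isSheaf_mdlPre F Y⟩
  res f _ _ hf := mdlRes F f hf
  res_comp _ _ _ _ _ _ _ _ := rfl
  res_id _ _ := rfl
  res_congr {Y' Y} f f' {U' U} hf hf' h s := by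
    refine Subtype.ext (funext fun ⟨z, hz⟩ => funext fun ⟨x, hx⟩ => ?_)
    have aux : ∀ (v v' : U), v = v' → ∀ (hv : Y.hom v.1 = x) (hv' : Y.hom v'.1 = x),
        (show mdlSec F Y U from s).1 v ⟨x, hv⟩ = (show mdlSec F Y U from s).1 v' ⟨x, hv'⟩ := by
      rintro v _ rfl _ _
      rfl
    exact aux _ _ (Subtype.ext (h z _ _ hz)) _ _

/-- The section of the model induced by a section of `F`. -/
noncomputable def mdlOf (Y : Over S) (W : Opens S) :
    F.obj.obj (op W) →+ mdlSec F Y ((Opens.map Y.hom).obj W) where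
  toFun t := ⟨fun z x => germ F x.1 (x.2 ▸ z.2) t,
    fun z hz => ⟨(Opens.map Y.hom).obj W, le_rfl, W, t, hz, fun w hw x hx => ⟨hx ▸ hw, rfl⟩⟩⟩
  map_zero' := by
    refine Subtype.ext (funext fun ⟨z, hz⟩ => funext fun ⟨x, hx⟩ => ?_)
    exact map_zero _
  map_add' a b := by
    refine Subtype.ext (funext fun ⟨z, hz⟩ => funext fun ⟨x, hx⟩ => ?_)
    exact map_add _ _ _

/-- `F ⟶ push (model)`. -/
noncomputable def toPushMdl (Y : Over S) : F ⟶ (CohTop.push Y.hom).obj ((mdl F).sh Y) :=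
  ⟨{ app := fun W => AddCommGrpCat.ofHom (mdlOf F Y W.unop)
     naturality := fun W W' i => by
      ext t
      refine Subtype.ext (funext fun ⟨z, hz⟩ => funext fun ⟨x, hx⟩ => ?_)
      exact germ_rs F (leOfHom i.unop) x (hx ▸ hz) t }⟩

/-- The comparison of the inverse image with the model. -/
noncomputable def pullToMdl (Y : Over S) : (CohTop.pull Y.hom).obj F ⟶ (mdl F).sh Y :=
  ((TopCat.Sheaf.pullbackPushforwardAdjunction AddCommGrpCat.{u} Y.hom).homEquiv F _).symm (toPushMdl F Y)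

lemma pullToMdl_unit (Y : Over S) (W : Opens S) (t : F.obj.obj (op W)) :
    (pullToMdl F Y).hom.app (op ((Opens.map Y.hom).obj W)) ((unitPre Y.hom F).app (op W) t) =
      mdlOf F Y W t := by
  have h := ((TopCat.Sheaf.pullbackPushforwardAdjunction AddCommGrpCat.{u} Y.hom).homEquiv F _).apply_symm_apply
    (toPushMdl F Y)
  replace h := ((TopCat.Sheaf.pullbackPushforwardAdjunction AddCommGrpCat.{u} Y.hom).homEquiv_unit F _
    (pullToMdl F Y)).symm.trans h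
  exact ConcreteCategory.congr_hom (congrArg (fun φ => φ.hom.app (op W)) h) t

instance isIso_pullToMdl (Y : Over S) : IsIso (pullToMdl F Y) := by
  have : ∀ z : Y.left, IsIso ((TopCat.Presheaf.stalkFunctor AddCommGrpCat.{u} z).map (pullToMdl F Y).1) := by
    intro z
    have key : ∀ (W : Opens S) (hW : Y.hom z ∈ W) (t : F.obj.obj (op W)),
        (TopCat.Presheaf.stalkFunctor AddCommGrpCat.{u} z).map (pullToMdl F Y).1
          (stalkUnit Y.hom F z (germ F (Y.hom z) hW t)) =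
          germ ((mdl F).sh Y) (U := (Opens.map Y.hom).obj W) z hW (mdlOf F Y W t) := by
      intro W hW t
      rw [← pullToMdl_unit]
      refine (congrArg _ (germ_stalkUnit_apply Y.hom F z W hW t)).trans ?_
      exact TopCat.Presheaf.stalkFunctor_map_germ_apply _ z hW (pullToMdl F Y).1 _
    rw [ConcreteCategory.isIso_iff_bijective]
    refine ⟨(injective_iff_map_eq_zero (AddCommGrpCat.Hom.hom _)).mpr fun a ha => ?_, fun b => ?_⟩
    · obtain ⟨c, rfl⟩ := (stalkUnit_bijective Y.hom F z).2 a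
      obtain ⟨W, hW, t, rfl⟩ := Fam.exists_germ c
      have h1 := (key W hW t).symm.trans ha
      replace h1 := h1.trans (map_zero (germ ((mdl F).sh Y) (U := (Opens.map Y.hom).obj W) z hW)).symm
      obtain ⟨V, hzV, i, _, e⟩ := TopCat.Presheaf.germ_eq _ z hW hW _ _ h1
      have e' := congrFun (congrFun (congrArg Subtype.val e) ⟨z, hzV⟩) ⟨Y.hom z, rfl⟩
      exact (congrArg _ (e'.trans rfl : germ F (Y.hom z) hW t = 0)).trans (map_zero _)
    · obtain ⟨U, hU, s, rfl⟩ := Fam.exists_germ b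
      obtain ⟨V, hV, W, t, hzV, ht⟩ := (show mdlSec F Y U from s).2 z hU
      obtain ⟨hW, -⟩ := ht z hzV _ rfl
      refine ⟨stalkUnit Y.hom F z (germ F (Y.hom z) hW t), (key W hW t).trans ?_⟩
      refine TopCat.Presheaf.germ_ext _ (V ⊓ (Opens.map Y.hom).obj W) ⟨hzV, hW⟩ (homOfLE inf_le_right)
        (homOfLE (inf_le_left.trans hV)) ?_
      refine Subtype.ext (funext fun ⟨w, hw⟩ => funext fun ⟨x, hx⟩ => ?_)
      obtain ⟨a, e⟩ := ht w hw.1 x hx
      exact e.symm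
  exact TopCat.Presheaf.isIso_of_stalkFunctor_map_iso (pullToMdl F Y)

/-- The inverse image is isomorphic to the model. -/
noncomputable def pullMdlIso (Y : Over S) : (CohTop.pull Y.hom).obj F ≅ (mdl F).sh Y := asIso (pullToMdl F Y)

end Groth.Agent.Desc49
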