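import Groth.Agent.Desc49.Fam

/-!
Semi-simplicial systems of spaces over a base and their alternating face maps on families.
-/

universe u

open CategoryTheory Limits TopologicalSpace Opposite
open Groth.Agent.TopCoh49

namespace Groth.Agent.Desc49

variable {S : TopCat.{u}}

/-- Spaces over `S` with face maps, without identities. -/
structure PreNerve (S : TopCat.{u}) where
  /-- The index sets. -/
  J : ℕ → Type u
  /-- The spaces. -/
  Y : ∀ p, J p → Over S
  /-- The faces on indices. -/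
  face : ∀ p, Fin (p + 2) → J (p + 1) → J p
  /-- The face maps. -/
  fmap : ∀ p i j, PMap (Y (p + 1) j) (Y p (face p i j))
  total : ∀ p i j, (fmap p i j).dom = ⊤

namespace PreNerve

variable (N : PreNerve S) (G : Fam S)

/-- The preimage of an open of the base. -/
abbrev pre {Y : Over S} (W : Opens S) : Opens Y.left := (Opens.map Y.hom).obj W

/-- Sections in degree `p` over an open of the base. -/
abbrev Cx (p : ℕ) (W : Opens S) : Type u := ∀ j : N.J p, (G.sh (N.Y p j)).obj.obj (op (pre W))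

lemma fmap_maps (p : ℕ) (i : Fin (p + 2)) (j : N.J (p + 1)) (W : Opens S) :
    (N.fmap p i j).Maps (pre W) (pre W) := fun z hz => by
  have h : z ∈ (N.fmap p i j).dom := by
    rw [N.total]
    trivial
  refine ⟨h, ?_⟩
  show (N.Y p (N.face p i j)).hom ((N.fmap p i j).toFun z h) ∈ W
  rw [(N.fmap p i j).over]
  exact hz

/-- A coface map. -/
noncomputable def δi (p : ℕ) (i : Fin (p + 2)) (W : Opens S) : N.Cx G p W →+ N.Cx G (p + 1) W where
  toFun x j := G.res (N.fmap p i j) (N.fmap_maps p i j W) (x (N.face p i j))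
  map_zero' := funext fun _ => map_zero _
  map_add' _ _ := funext fun _ => map_add _ _ _

/-- The alternating sum of the coface maps. -/
noncomputable def δs (p : ℕ) (W : Opens S) : N.Cx G p W →+ N.Cx G (p + 1) W :=
  ∑ i : Fin (p + 2), ((-1) ^ (i : ℕ) : ℤ) • N.δi G p i W

lemma δs_apply (p : ℕ) (W : Opens S) (x : N.Cx G p W) :
    N.δs G p W x = ∑ i : Fin (p + 2), ((-1) ^ (i : ℕ) : ℤ) • N.δi G p i W x := by
  simp [δs]

/-- Restriction to a smaller open of the base. -/
noncomputable def rW (p : ℕ) {W W' : Opens S} (h : W' ≤ W) : N.Cx G p W →+ N.Cx G p W' where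
  toFun x j := rs (G.sh (N.Y p j)).obj ((Opens.map (N.Y p j).hom).monotone h) (x j)
  map_zero' := funext fun _ => map_zero _
  map_add' _ _ := funext fun _ => map_add _ _ _

lemma rW_δi (p : ℕ) (i : Fin (p + 2)) {W W' : Opens S} (h : W' ≤ W) (x : N.Cx G p W) :
    N.rW G (p + 1) h (N.δi G p i W x) = N.δi G p i W' (N.rW G p h x) := funext fun j => by
  have hm : (N.fmap p i j).Maps (pre W') (pre W) := fun z hz =>
    ⟨(N.fmap_maps p i j W' z hz).1, h (N.fmap_maps p i j W' z hz).2⟩
  exact (G.rs_res _ _ (N.fmap_maps p i j W) hm _).trans (G.res_rs _ _ hm (N.fmap_maps p i j W') _).symm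

lemma rW_δs (p : ℕ) {W W' : Opens S} (h : W' ≤ W) (x : N.Cx G p W) :
    N.rW G (p + 1) h (N.δs G p W x) = N.δs G p W' (N.rW G p h x) := by
  simp only [δs_apply, map_sum, map_zsmul, rW_δi]

variable {G} {H : Fam S}

/-- A morphism of families, in degree `p`. -/
noncomputable def app (φ : G.Hom H) (p : ℕ) (W : Opens S) : N.Cx G p W →+ N.Cx H p W where
  toFun x j := φ.app _ _ (x j)
  map_zero' := funext fun _ => map_zero _
  map_add' _ _ := funext fun _ => map_add _ _ _

lemma app_δi (φ : G.Hom H) (p : ℕ) (i : Fin (p + 2)) (W : Opens S) (x : N.Cx G p W) :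
    N.app φ (p + 1) W (N.δi G p i W x) = N.δi H p i W (N.app φ p W x) :=
  funext fun _ => φ.natural _ _ _

lemma app_δs (φ : G.Hom H) (p : ℕ) (W : Opens S) (x : N.Cx G p W) :
    N.app φ (p + 1) W (N.δs G p W x) = N.δs H p W (N.app φ p W x) := by
  simp only [δs_apply, map_sum, map_zsmul, app_δi]

lemma app_rW (φ : G.Hom H) (p : ℕ) {W W' : Opens S} (h : W' ≤ W) (x : N.Cx G p W) :
    N.app φ p W' (N.rW G p h x) = N.rW H p h (N.app φ p W x) :=
  funext fun _ => φ.natural_rs _ _

end PreNerve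

/-- A semi-simplicial system of spaces over `S`. -/
structure Nerve (S : TopCat.{u}) extends PreNerve S where
  simp_eq : ∀ (G : Fam S) (p : ℕ) (i j : Fin (p + 2)), i ≤ j → ∀ (W : Opens S) (x : toPreNerve.Cx G p W),
    toPreNerve.δi G (p + 1) j.succ W (toPreNerve.δi G p i W x) =
      toPreNerve.δi G (p + 1) i.castSucc W (toPreNerve.δi G p j W x)

namespace Nerve

variable (N : Nerve S) (G : Fam S)

lemma δs_δs (p : ℕ) (W : Opens S) (x : N.Cx G p W) :
    N.δs G (p + 1) W (N.δs G p W x) = 0 := by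
  simp only [PreNerve.δs_apply, map_sum, map_zsmul, Finset.smul_sum, smul_smul]
  rw [← Finset.sum_product']
  let P := Fin (p + 2) × Fin (p + 3)
  let S : Finset P := {ij : P | (ij.2 : ℕ) ≤ (ij.1 : ℕ)}
  rw [Finset.univ_product_univ, ← Finset.sum_add_sum_compl S, ← eq_neg_iff_add_eq_zero,
    ← Finset.sum_neg_distrib]
  let φ : ∀ ij : P, ij ∈ S → P := fun ij hij =>
    (Fin.castLT ij.2 (lt_of_le_of_lt (Finset.mem_filter.mp hij).right (Fin.is_lt ij.1)), ij.1.succ)
  apply Finset.sum_bij φ
  · intro ij hij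
    simp_rw [S, φ, Finset.compl_filter, Finset.mem_filter_univ, Fin.val_succ,
      Fin.val_castLT] at hij ⊢
    lia
  · rintro ⟨i, j⟩ hij ⟨i', j'⟩ hij' h
    rw [Prod.mk_inj]
    exact ⟨by simpa [φ] using! congr_arg Prod.snd h,
      by simpa [φ, Fin.castSucc_castLT] using! congr_arg Fin.castSucc (congr_arg Prod.fst h)⟩
  · rintro ⟨i', j'⟩ hij'
    simp_rw [S, Finset.compl_filter, Finset.mem_filter_univ, not_le] at hij'
    refine ⟨(j'.pred <| ?_, Fin.castSucc i'), ?_, ?_⟩
    · rintro rfl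
      simp only [Fin.val_zero, not_lt_zero] at hij'
    · simpa [S] using! Nat.le_sub_one_of_lt hij'
    · simp only [φ, Fin.castLT_castSucc, Fin.succ_pred]
  · rintro ⟨i, j⟩ hij
    rw [← neg_smul]
    have hle : (j : ℕ) ≤ i := (Finset.mem_filter.mp hij).right
    congr 1
    · simp only [φ, Fin.val_succ, Fin.val_castLT, pow_add, pow_one]
      ring
    · obtain ⟨j, hj⟩ := j
      exact (N.simp_eq G p ⟨j, lt_of_le_of_lt hle i.2⟩ i hle W x).symm

end Nerve

end Groth.Agent.Desc49
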