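import Groth.Agent.Desc49.CechNerve
import Groth.Agent.Desc49.Compare
import Mathlib.Topology.Maps.Proper.Basic

/-!
Cohomological descent along a proper separated surjection.
-/

universe u

open CategoryTheory Limits TopologicalSpace Opposite
open Groth.Agent.TopCoh49 Groth.Agent.SpSeq49
open scoped Topology

namespace Groth.Agent.Desc49

variable {S X : TopCat.{u}} (f : X ⟶ S) (s : S)

/-- The inclusion of the fibre. -/
noncomputable abbrev fibIncl : TopCat.of {x : X // f x = s} ⟶ X :=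
  TopCat.ofHom ⟨Subtype.val, continuous_subtype_val⟩

/-- The fibre, over the base. -/
noncomputable abbrev fibMap : TopCat.of {x : X // f x = s} ⟶ S := fibIncl f s ≫ f

/-- Fibred powers of the fibre map to those of the map. -/
noncomputable def kapHom (p : ℕ) : (wp (fibMap f s) p).left ⟶ (wp f p).left :=
  WidePullback.lift (WidePullback.base (fun _ : Fin (p + 1) => fibMap f s))
    (fun k => pr (fibMap f s) p k ≫ fibIncl f s)
    fun k => (Category.assoc _ _ _).trans (WidePullback.π_arrow _ k)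

/-- The comparison map, over the base. -/
noncomputable def kap (p : ℕ) : wp (fibMap f s) p ⟶ wp f p :=
  Over.homMk (kapHom f s p) (WidePullback.lift_base _ _ _ _)

lemma pr_kap (p : ℕ) (k : Fin (p + 1)) (z : (wp (fibMap f s) p).left) :
    pr f p k (kapHom f s p z) = (pr (fibMap f s) p k z).1 :=
  ConcreteCategory.congr_hom (WidePullback.lift_π (arrows := fun _ : Fin (p + 1) => f) _ _ _ k) z

lemma hom_fib (p : ℕ) (z : (wp (fibMap f s) p).left) : (wp (fibMap f s) p).hom z = s :=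
  (pr_over (fibMap f s) p 0 z).symm.trans (pr (fibMap f s) p 0 z).2

/-- The components of a point of a fibred power. -/
noncomputable def comps {X' : TopCat.{u}} (g : X' ⟶ S) (p : ℕ) : (wp g p).left → (Fin (p + 1) → X') :=
  fun z k => pr g p k z

lemma continuous_comps {X' : TopCat.{u}} (g : X' ⟶ S) (p : ℕ) : Continuous (comps g p) :=
  continuous_pi fun k => (pr g p k).hom.continuous

lemma isEmbedding_comps {X' : TopCat.{u}} (g : X' ⟶ S) (p : ℕ) : Topology.IsEmbedding (comps g p) := by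
  let T := {v : Fin (p + 1) → X' // ∀ k, g (v k) = g (v 0)}
  let toT : (wp g p).left → T := fun z => ⟨comps g p z, fun k => (pr_over g p k z).trans (pr_over g p 0 z).symm⟩
  let ofT : TopCat.of T ⟶ (wp g p).left :=
    WidePullback.lift (TopCat.ofHom ⟨fun v => g (v.1 0), g.hom.continuous.comp ((continuous_apply 0).comp continuous_subtype_val)⟩)
      (fun k => TopCat.ofHom ⟨fun v => v.1 k, (continuous_apply k).comp continuous_subtype_val⟩)
      (fun k => by ext v; exact v.2 k)
  have hc : Continuous toT := (continuous_comps g p).subtype_mk _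
  have hinv : Function.LeftInverse ofT toT := fun z => wp_ext g fun k =>
    ConcreteCategory.congr_hom (WidePullback.lift_π (X := TopCat.of T) (arrows := fun _ : Fin (p + 1) => g) _ _ _ k) (toT z)
  exact Topology.IsEmbedding.subtypeVal.comp (Function.LeftInverse.isEmbedding hinv ofT.hom.continuous hc)

variable (hf : IsProperMap f)
  (hsep : ∀ x x' : X, f x = f x' → x ≠ x' → ∃ U V : Set X, IsOpen U ∧ IsOpen V ∧ x ∈ U ∧ x' ∈ V ∧ Disjoint U V)

include hsep in
lemma t2_fib : T2Space {x : X // f x = s} :=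
  ⟨fun x y hxy => by
    obtain ⟨U, V, hU, hV, hx, hy, hd⟩ := hsep x.1 y.1 (x.2.trans y.2.symm) fun e => hxy (Subtype.ext e)
    exact ⟨_, _, hU.preimage continuous_subtype_val, hV.preimage continuous_subtype_val, hx, hy,
      hd.preimage _⟩⟩

include hsep in
lemma t2_wp (p : ℕ) : T2Space (wp (fibMap f s) p).left := by
  have := t2_fib f s hsep
  exact T2Space.of_injective_continuous (isEmbedding_comps (fibMap f s) p).injective (continuous_comps _ p)

include hf in
lemma compact_wp (p : ℕ) : CompactSpace (wp (fibMap f s) p).left := by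
  have : CompactSpace {x : X // f x = s} :=
    isCompact_iff_compactSpace.mp (hf.isCompact_preimage (isCompact_singleton (x := s)))
  let e : TopCat.of (Fin (p + 1) → {x : X // f x = s}) ⟶ (wp (fibMap f s) p).left :=
    WidePullback.lift (TopCat.ofHom ⟨fun _ => s, continuous_const⟩)
      (fun k => TopCat.ofHom ⟨fun v => v k, continuous_apply k⟩)
      (fun k => by ext v; exact (v k).2)
  have hsurj : Function.Surjective e := fun z => ⟨comps (fibMap f s) p z, wp_ext _ fun k =>
    ConcreteCategory.congr_hom (WidePullback.lift_π (X := TopCat.of (Fin (p + 1) → {x : X // f x = s}))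
      (arrows := fun _ : Fin (p + 1) => fibMap f s) _ _ _ k) (comps (fibMap f s) p z)⟩
  exact hsurj.compactSpace e.hom.continuous

lemma isEmbedding_kap (p : ℕ) : Topology.IsEmbedding (kap f s p).left := by
  have e : comps f p ∘ (kap f s p).left =
      (fun v : Fin (p + 1) → {x : X // f x = s} => fun k => (v k).1) ∘ comps (fibMap f s) p :=
    funext fun z => funext fun k => pr_kap f s p k z
  refine Topology.IsEmbedding.of_comp (kap f s p).left.hom.continuous (continuous_comps f p) ?_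
  rw [e]
  exact (Topology.IsEmbedding.piMap fun _ => Topology.IsEmbedding.subtypeVal).comp (isEmbedding_comps _ p)

include hsep in
lemma sepPts_kap (p : ℕ) : SepPts (Set.range (kap f s p).left) := by
  rintro _ ⟨a, rfl⟩ _ ⟨b, rfl⟩ hne
  obtain ⟨k, hk⟩ : ∃ k, pr f p k ((kap f s p).left a) ≠ pr f p k ((kap f s p).left b) := by
    by_contra h
    push Not at h
    exact hne (wp_ext f h)
  have hfib : ∀ c, f (pr f p k ((kap f s p).left c)) = s := fun c =>
    (congrArg f (pr_kap f s p k c)).trans (pr (fibMap f s) p k c).2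
  obtain ⟨U, V, hU, hV, hx, hy, hd⟩ := hsep _ _ ((hfib a).trans (hfib b).symm) hk
  rw [Filter.disjoint_iff]
  exact ⟨pr f p k ⁻¹' U, (hU.preimage (pr f p k).hom.continuous).mem_nhds hx,
    pr f p k ⁻¹' V, (hV.preimage (pr f p k).hom.continuous).mem_nhds hy, hd.preimage _⟩

lemma mem_range_kap {p : ℕ} {z : (wp f p).left} (hz : (wp f p).hom z = s) :
    z ∈ Set.range (kap f s p).left := by
  let e : TopCat.of PUnit.{u + 1} ⟶ (wp (fibMap f s) p).left :=
    WidePullback.lift (TopCat.ofHom ⟨fun _ => s, continuous_const⟩)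
      (fun k => TopCat.ofHom ⟨fun _ => ⟨pr f p k z, (pr_over f p k z).trans hz⟩, continuous_const⟩)
      (fun k => by ext v; exact (pr_over f p k z).trans hz)
  refine ⟨e PUnit.unit, wp_ext f fun k => (pr_kap f s p k _).trans ?_⟩
  exact congrArg Subtype.val (ConcreteCategory.congr_hom
    (WidePullback.lift_π (X := TopCat.of PUnit.{u + 1}) (arrows := fun _ : Fin (p + 1) => fibMap f s) _ _ _ k) PUnit.unit)

include hf in
lemma tube (p : ℕ) (U : Opens (wp f p).left) (hU : Set.range (kap f s p).left ⊆ U) :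
    ∃ W : Opens S, s ∈ W ∧ PreNerve.pre (Y := wp f p) W ≤ U := by
  obtain ⟨O, hO, hOU⟩ := (isEmbedding_comps f p).isInducing.isOpen_iff.mp U.isOpen
  have hcl : IsClosed ((fun v : Fin (p + 1) → X => fun k => f (v k)) '' Oᶜ) :=
    (IsProperMap.pi_map fun _ : Fin (p + 1) => hf).isClosedMap _ hO.isClosed_compl
  refine ⟨⟨(fun t : S => fun _ : Fin (p + 1) => t) ⁻¹' ((fun v : Fin (p + 1) → X => fun k => f (v k)) '' Oᶜ)ᶜ,
    hcl.isOpen_compl.preimage (continuous_pi fun _ => continuous_id)⟩, ?_, ?_⟩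
  · rintro ⟨v, hv, e⟩
    let z : TopCat.of PUnit.{u + 1} ⟶ (wp f p).left :=
      WidePullback.lift (TopCat.ofHom ⟨fun _ => s, continuous_const⟩)
        (fun k => TopCat.ofHom ⟨fun _ => v k, continuous_const⟩)
        (fun k => by ext u; exact congrFun e k)
    have hz : comps f p (z PUnit.unit) = v := funext fun k => ConcreteCategory.congr_hom
      (WidePullback.lift_π (X := TopCat.of PUnit.{u + 1}) (arrows := fun _ : Fin (p + 1) => f) _ _ _ k) PUnit.unit
    have hs : (wp f p).hom (z PUnit.unit) = s := ConcreteCategory.congr_hom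
      (WidePullback.lift_base (X := TopCat.of PUnit.{u + 1}) _ _ _ _) PUnit.unit
    refine hv ?_
    rw [← hz]
    exact hOU.symm.le (hU (mem_range_kap f s hs) : z PUnit.unit ∈ (U : Set (wp f p).left))
  · intro z hz
    by_contra h
    exact hz ⟨comps f p z, fun hO' => h (hOU.le hO'), funext fun k => pr_over f p k z⟩

variable (F : CohTop.Ab S)

/-- Restriction to the fibred powers of the fibre. -/
noncomputable def fibRes (G : Fam S) (p : ℕ) {W : Opens S} (hs : s ∈ W) :
    (cech f).Cx G p W →+ (cech (fibMap f s)).Cx G p ⊤ where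
  toFun x _ := G.res (κP (kap f s p)) (κP_maps (U' := PreNerve.pre (⊤ : Opens S)) (U := PreNerve.pre W) (kap f s p) fun z _ =>
    show (wp f p).hom (kapHom f s p z) ∈ W from
      ((ConcreteCategory.congr_hom (Over.w (kap f s p)) z).trans (hom_fib f s p z)).symm ▸ hs) (x PUnit.unit)
  map_zero' := funext fun _ => map_zero _
  map_add' _ _ := funext fun _ => map_add _ _ _

/-- The identification of sections over neighbourhoods with global sections, on the fibre. -/
noncomputable def fibUp (G : Fam S) (p : ℕ) {W : Opens S} (hs : s ∈ W) :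
    (cech (fibMap f s)).Cx G p W →+ (cech (fibMap f s)).Cx G p ⊤ where
  toFun x _ := G.res (PMap.id _) (PMap.id_maps (show PreNerve.pre (⊤ : Opens S) ≤ PreNerve.pre W from fun z _ =>
    show (wp (fibMap f s) p).hom z ∈ W from (hom_fib f s p z).symm ▸ hs)) (x PUnit.unit)
  map_zero' := funext fun _ => map_zero _
  map_add' _ _ := funext fun _ => map_add _ _ _

lemma fibRes_app {G H : Fam S} (φ : G.Hom H) (p : ℕ) {W : Opens S} (hs : s ∈ W) (x : (cech f).Cx G p W) :
    fibRes f s H p hs ((cech f).app φ p W x) = (cech (fibMap f s)).app φ p ⊤ (fibRes f s G p hs x) :=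
  funext fun _ => (φ.natural _ _ _).symm

lemma fibUp_app {G H : Fam S} (φ : G.Hom H) (p : ℕ) {W : Opens S} (hs : s ∈ W)
    (x : (cech (fibMap f s)).Cx G p W) :
    fibUp f s H p hs ((cech (fibMap f s)).app φ p W x) = (cech (fibMap f s)).app φ p ⊤ (fibUp f s G p hs x) :=
  funext fun _ => (φ.natural _ _ _).symm

lemma fibRes_δi (G : Fam S) (p : ℕ) (i : Fin (p + 2)) {W : Opens S} (hs : s ∈ W) (x : (cech f).Cx G p W) :
    fibRes f s G (p + 1) hs ((cech f).δi G p i W x) = (cech (fibMap f s)).δi G p i ⊤ (fibRes f s G p hs x) :=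
  funext fun _ => by
  refine (G.res_comp _ _ _ _ _).trans (Eq.trans ?_ (G.res_comp _ _ _ _ _).symm)
  refine G.res_congr _ _ _ _ (fun z hz hz' _ => wp_ext f fun k => ?_) _
  show pr f p k (faceHom f p i (kapHom f s (p + 1) z)) = pr f p k (kapHom f s p (faceHom (fibMap f s) p i z))
  refine (pr_faceHom f p i k _).trans ((pr_kap f s (p + 1) _ z).trans ?_)
  exact ((pr_kap f s p k _).trans (congrArg Subtype.val (pr_faceHom (fibMap f s) p i k z))).symm

lemma fibUp_δi (G : Fam S) (p : ℕ) (i : Fin (p + 2)) {W : Opens S} (hs : s ∈ W)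
    (x : (cech (fibMap f s)).Cx G p W) :
    fibUp f s G (p + 1) hs ((cech (fibMap f s)).δi G p i W x) =
      (cech (fibMap f s)).δi G p i ⊤ (fibUp f s G p hs x) :=
  funext fun _ => by
  refine (G.res_comp _ _ _ _ _).trans (Eq.trans ?_ (G.res_comp _ _ _ _ _).symm)
  exact G.res_congr _ _ _ _ (fun z hz hz' _ => rfl) _

lemma fibRes_δs (G : Fam S) (p : ℕ) {W : Opens S} (hs : s ∈ W) (x : (cech f).Cx G p W) :
    fibRes f s G (p + 1) hs ((cech f).δs G p W x) = (cech (fibMap f s)).δs G p ⊤ (fibRes f s G p hs x) := by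
  simp only [PreNerve.δs_apply, map_sum, map_zsmul, fibRes_δi]

lemma fibUp_δs (G : Fam S) (p : ℕ) {W : Opens S} (hs : s ∈ W) (x : (cech (fibMap f s)).Cx G p W) :
    fibUp f s G (p + 1) hs ((cech (fibMap f s)).δs G p W x) =
      (cech (fibMap f s)).δs G p ⊤ (fibUp f s G p hs x) := by
  simp only [PreNerve.δs_apply, map_sum, map_zsmul, fibUp_δi]

lemma fibRes_rW (G : Fam S) (p : ℕ) {W W' : Opens S} (h : W' ≤ W) (hs : s ∈ W') (x : (cech f).Cx G p W) :
    fibRes f s G p hs ((cech f).rW G p h x) = fibRes f s G p (h hs) x :=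
  funext fun _ => G.res_rs _ _ _ _ _

lemma fibUp_rW (G : Fam S) (p : ℕ) {W : Opens S} (hs : s ∈ W) (c : (cech (fibMap f s)).Cx G p ⊤) :
    fibUp f s G p hs ((cech (fibMap f s)).rW G p le_top c) = c :=
  funext fun _ => (G.res_rs _ _ (PMap.id_maps le_rfl) _ _).trans ((G.res_id le_rfl _).trans (rs_self _ _ _))

/-- Restriction of families to the fibre. -/
noncomputable def fibFam {W : Opens S} (hs : s ∈ W) :
    ((cech f).dc F W).Fam →+ ((cech (fibMap f s)).dc F ⊤).Fam where
  toFun y p q := fibRes f s (Nerve.Aq F q) p hs (y p q)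
  map_zero' := funext fun _ => funext fun _ => map_zero _
  map_add' _ _ := funext fun _ => funext fun _ => map_add _ _ _

lemma fibRes_vIn {W : Opens S} (hs : s ∈ W) (y : ((cech f).dc F W).Fam) (p q : ℕ) :
    fibRes f s (Nerve.Aq F q) p hs (((cech f).dc F W).vIn y p q) =
      ((cech (fibMap f s)).dc F ⊤).vIn (fibFam f s F hs y) p q := by
  rcases q with _ | q
  · exact map_zero _
  · exact fibRes_app f s ((mdl F).dA (q + 1)) p hs _

lemma fibRes_aug {W : Opens S} (hs : s ∈ W) (t : F.obj.obj (op W)) (W' : Opens S) (hs' : s ∈ W')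
    (hle : W' ≤ W) (p q : ℕ) :
    fibUp f s (Nerve.Aq F q) p hs' ((cech (fibMap f s)).aug F W' (rs F.obj hle t) p q) =
      fibRes f s (Nerve.Aq F q) p hs ((cech f).aug F W t p q) := by
  rcases p with _ | p <;> rcases q with _ | q
  · refine (fibUp_app f s ((mdl F).dA 0) 0 hs' ((cech (fibMap f s)).mdlCx F 0 W' (rs F.obj hle t))).trans
      (Eq.trans ?_ (fibRes_app f s ((mdl F).dA 0) 0 hs ((cech f).mdlCx F 0 W t)).symm)
    refine congrArg _ (funext fun j => ?_)
    refine Subtype.ext (funext fun ⟨z, hz⟩ => funext fun ⟨x, hx⟩ => ?_)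
    exact germ_rs F hle x _ t
  all_goals exact (map_zero _).trans (map_zero _).symm

/-- A vertical boundary of one column over an open. -/
lemma exists_vIn_of_bd {X' : TopCat.{u}} (g : X' ⟶ S) {W : Opens S} (p q : ℕ)
    (m : (cech g).Cx (Nerve.Aq F q) p W)
    (h : ((mdl F).fres (wp g p)).Bd q (PreNerve.pre W) (m PUnit.unit)) :
    ∃ y : ((cech g).dc F W).Fam, ((cech g).dc F W).vIn y p q = m := by
  rcases q with _ | q
  · exact ⟨0, funext fun _ => h.symm⟩
  · obtain ⟨y, hy⟩ := h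
    refine ⟨((cech g).dc F W).single p q (fun _ => y), ?_⟩
    refine (congrArg (((cech g).dc F W).v p q) (((cech g).dc F W).single_same p q _)).trans ?_
    exact funext fun _ => hy

lemma bd_of_vIn {X' : TopCat.{u}} (g : X' ⟶ S) {W : Opens S} (p q : ℕ)
    (m : (cech g).Cx (Nerve.Aq F q) p W) (y : ((cech g).dc F W).Fam)
    (h : ((cech g).dc F W).vIn y p q = m) :
    ((mdl F).fres (wp g p)).Bd q (PreNerve.pre W) (m PUnit.unit) := by
  rcases q with _ | q
  · exact congrFun h.symm PUnit.unit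
  · exact ⟨(y p q : (cech g).Cx (Nerve.Aq F q) p W) PUnit.unit, congrFun h PUnit.unit⟩

lemma hIn_vIn (M : DC.{u}) (y : M.Fam) (p q : ℕ) :
    ∃ y' : M.Fam, M.h p q (M.vIn y p q) = M.vIn y' (p + 1) q := by
  rcases q with _ | q
  · exact ⟨0, map_zero (M.h p 0)⟩
  · refine ⟨M.single (p + 1) q (M.h p q (y p q)), (M.comm p q (y p q)).trans ?_⟩
    exact congrArg (M.v (p + 1) q) (M.single_same (p + 1) q _).symm

lemma vIn_add (M : DC.{u}) (y y' : M.Fam) (p q : ℕ) : M.vIn (y + y') p q = M.vIn y p q + M.vIn y' p q := by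
  rcases q with _ | q
  · exact (add_zero 0).symm
  · exact map_add (M.v p q) (y p q) (y' p q)

lemma vIn_sub (M : DC.{u}) (y y' : M.Fam) (p q : ℕ) : M.vIn (y - y') p q = M.vIn y p q - M.vIn y' p q := by
  rcases q with _ | q
  · exact (sub_zero 0).symm
  · exact map_sub (M.v p q) (y p q) (y' p q)

include hf hsep in
/-- Surjectivity on classes. -/
lemma exists_near (p q : ℕ) (c : (cech (fibMap f s)).Cx (Nerve.Aq F q) p ⊤)
    (hc : ((cech (fibMap f s)).dc F ⊤).v p q c = 0) :
    ∃ (W : Opens S) (hs : s ∈ W) (x : (cech f).Cx (Nerve.Aq F q) p W)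
      (y : ((cech (fibMap f s)).dc F ⊤).Fam), ((cech f).dc F W).v p q x = 0 ∧
        fibRes f s (Nerve.Aq F q) p hs x =
          (show ((cech (fibMap f s)).dc F ⊤).Φ p q from c) + ((cech (fibMap f s)).dc F ⊤).vIn y p q := by
  have := t2_wp f s hsep p
  have := compact_wp f s hf p
  obtain ⟨W, hs, x, hx⟩ := exists_class_near (kap f s p) F (isEmbedding_kap f s p) (sepPts_kap f s hsep p)
    (tube f s hf p) (fun W hs z _ => show (wp f p).hom (kapHom f s p z) ∈ W from
      ((ConcreteCategory.congr_hom (Over.w (kap f s p)) z).trans (hom_fib f s p z)).symm ▸ hs)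
    q ⟨c PUnit.unit, congrFun hc PUnit.unit⟩
  obtain ⟨y, hy⟩ := exists_vIn_of_bd F (fibMap f s) (W := ⊤) p q
    (fibRes f s (Nerve.Aq F q) p hs (fun _ => x.1) - c) hx
  refine ⟨W, hs, fun _ => x.1, y, funext fun _ => x.2, ?_⟩
  exact (add_sub_cancel c _).symm.trans (congrArg (c + ·) hy.symm)

include hf hsep in
/-- Injectivity on classes. -/
lemma exists_vanish (p q : ℕ) {W : Opens S} (hs : s ∈ W) (x : (cech f).Cx (Nerve.Aq F q) p W)
    (hx : ((cech f).dc F W).v p q x = 0) (y : ((cech (fibMap f s)).dc F ⊤).Fam)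
    (h : fibRes f s (Nerve.Aq F q) p hs x = ((cech (fibMap f s)).dc F ⊤).vIn y p q) :
    ∃ (W' : Opens S) (hle : W' ≤ W) (y' : ((cech f).dc F W').Fam), s ∈ W' ∧
      (cech f).rW (Nerve.Aq F q) p hle x = ((cech f).dc F W').vIn y' p q := by
  have := t2_wp f s hsep p
  have := compact_wp f s hf p
  obtain ⟨W', hle, hs', h'⟩ := exists_vanish_near (kap f s p) F (isEmbedding_kap f s p) (sepPts_kap f s hsep p)
    (tube f s hf p) (fun W hs z _ => show (wp f p).hom (kapHom f s p z) ∈ W from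
      ((ConcreteCategory.congr_hom (Over.w (kap f s p)) z).trans (hom_fib f s p z)).symm ▸ hs)
    q hs ⟨x PUnit.unit, congrFun hx PUnit.unit⟩ (bd_of_vIn F (fibMap f s) (W := ⊤) p q _ y h.symm)
  obtain ⟨y', hy'⟩ := exists_vIn_of_bd F f (W := W') p q ((cech f).rW (Nerve.Aq F q) p hle x) h'
  exact ⟨W', hle, y', hs', hy'.symm⟩

include hf hsep in
/-- Local exactness for a proper separated surjection, at a point. -/
theorem critL_proper_at (x₀ : X) (hx₀ : f x₀ = s) (W : Opens S) (hs : s ∈ W) (p q : ℕ)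
    (x : (cech f).Cx (Nerve.Aq F q) p W) (hv : ((cech f).dc F W).v p q x = 0)
    (w : ((cech f).dc F W).Fam) (hw : ((cech f).dc F W).vIn w (p + 1) q = ((cech f).dc F W).h p q x) :
    ∃ (W' : Opens S) (h : W' ≤ W) (z y : ((cech f).dc F W').Fam) (t : F.obj.obj (op W')), s ∈ W' ∧
      (∀ a b, ((cech f).dc F W').v a b (z a b) = 0) ∧
      ((cech f).rW (Nerve.Aq F q) p h x : ((cech f).dc F W').Φ p q) =
        ((cech f).dc F W').hIn z p q + ((cech f).dc F W').vIn y p q + (cech f).aug F W' t p q := by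
  classical
  let N := cech f
  let N' := cech (fibMap f s)
  let L : LocSec (fibMap f s) (⊤ : Opens S) :=
    { B := Over.mk (TopCat.ofHom ⟨fun _ : PUnit.{u + 1} => s, continuous_const⟩ : TopCat.of PUnit.{u + 1} ⟶ S)
      emb := @Topology.IsEmbedding.of_subsingleton PUnit.{u + 1} S _ _ _ (fun _ => s)
      σ := PMap.ofHom (TopCat.ofHom ⟨fun _ => ⟨x₀, hx₀⟩, continuous_const⟩) (by ext a; exact hx₀)
      σ_dom := le_top
      r := PMap.ofHom (TopCat.ofHom ⟨fun _ => PUnit.unit, continuous_const⟩) (by ext z; exact z.2.symm)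
      r_dom := le_top }
  let c := fibRes f s (Nerve.Aq F q) p hs x
  have hc : (N'.dc F ⊤).v p q c = 0 :=
    (fibRes_app f s ((mdl F).dA (q + 1)) p hs x).symm.trans ((congrArg _ hv).trans (map_zero _))
  have hcw : (N'.dc F ⊤).vIn (fibFam f s F hs w) (p + 1) q = (N'.dc F ⊤).h p q c :=
    (fibRes_vIn f s F hs w (p + 1) q).symm.trans ((congrArg _ hw).trans (fibRes_δs f s _ p hs x))
  obtain ⟨W₀, h₀, z', y', t, hs₀, hz', e⟩ :=
    L.critL_at F (s := s) trivial PUnit.unit rfl ⊤ trivial p q c hc _ hcw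
  let up : (N'.dc F W₀).Fam → (N'.dc F ⊤).Fam := fun y a b => fibUp f s (Nerve.Aq F b) a hs₀ (y a b)
  have hvup : ∀ y a b, fibUp f s (Nerve.Aq F b) a hs₀ ((N'.dc F W₀).vIn y a b) = (N'.dc F ⊤).vIn (up y) a b := by
    intro y a b
    rcases b with _ | b
    · exact map_zero _
    · exact fibUp_app f s ((mdl F).dA (b + 1)) a hs₀ _
  have e' : c = (show (N'.dc F ⊤).Φ p q from fibUp f s (Nerve.Aq F q) p hs₀ ((N'.dc F W₀).hIn z' p q)) + (N'.dc F ⊤).vIn (up y') p q +
      (show (N'.dc F ⊤).Φ p q from fibRes f s (Nerve.Aq F q) p hs₀ (N.aug F W₀ t p q)) := by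
    refine ((fibUp_rW f s _ p hs₀ c).symm.trans (congrArg (fibUp f s (Nerve.Aq F q) p hs₀) e)).trans ?_
    refine (map_add _ _ _).trans (congrArg₂ (· + ·) ?_ ?_)
    · exact (map_add _ _ _).trans (congrArg (_ + ·) (hvup y' p q))
    · refine Eq.trans ?_ (fibRes_aug f s F hs₀ t W₀ hs₀ le_rfl p q)
      rw [rs_self]
  have key : ∃ (W₁ : Opens S) (hs₁ : s ∈ W₁) (x₁ : (N.dc F W₁).Fam) (y₁ : (N'.dc F ⊤).Fam),
      (∀ a b, (N.dc F W₁).v a b (x₁ a b) = 0) ∧
      fibRes f s (Nerve.Aq F q) p hs₁ ((N.dc F W₁).hIn x₁ p q) =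
        (show (N'.dc F ⊤).Φ p q from fibUp f s (Nerve.Aq F q) p hs₀ ((N'.dc F W₀).hIn z' p q)) + (N'.dc F ⊤).vIn y₁ p q := by
    rcases p with _ | p
    · refine ⟨⊤, trivial, 0, 0, fun _ _ => map_zero _, ?_⟩
      refine (map_zero _).trans (Eq.symm ?_)
      refine (congrArg₂ (fun a b : (N'.dc F ⊤).Φ 0 q => a + b) (map_zero _) ?_).trans (add_zero _)
      rcases q with _ | q
      · rfl
      · exact map_zero _
    · have hzc : (N'.dc F ⊤).v p q (fibUp f s (Nerve.Aq F q) p hs₀ (z' p q)) = 0 :=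
        (fibUp_app f s ((mdl F).dA (q + 1)) p hs₀ _).symm.trans ((congrArg _ (hz' p q)).trans (map_zero _))
      obtain ⟨W₁, hs₁, x₁, y₁, hx₁, e₁⟩ := exists_near f s hf hsep F p q _ hzc
      obtain ⟨y₂, hy₂⟩ := hIn_vIn (N'.dc F ⊤) y₁ p q
      refine ⟨W₁, hs₁, (N.dc F W₁).single p q x₁, y₂, v_single (M := N.dc F W₁) p q x₁ hx₁, ?_⟩
      refine (congrArg (fun u => fibRes f s (Nerve.Aq F q) (p + 1) hs₁ (N.δs (Nerve.Aq F q) p W₁ u))
        ((N.dc F W₁).single_same p q x₁)).trans ((fibRes_δs f s _ p hs₁ x₁).trans ?_)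
      refine (congrArg (N'.δs (Nerve.Aq F q) p ⊤) e₁).trans ((map_add _ _ _).trans (congrArg₂ (· + ·) ?_ hy₂))
      exact (fibUp_δs f s _ p hs₀ _).symm
  obtain ⟨W₁, hs₁, x₁, y₁, hx₁, e₁⟩ := key
  let W₂ := W ⊓ W₀ ⊓ W₁
  have ha : W₂ ≤ W := inf_le_left.trans inf_le_left
  have hb : W₂ ≤ W₀ := inf_le_left.trans inf_le_right
  have hd : W₂ ≤ W₁ := inf_le_right
  have hs₂ : s ∈ W₂ := ⟨⟨hs, hs₀⟩, hs₁⟩
  let r : N.Cx (Nerve.Aq F q) p W₂ := N.rW (Nerve.Aq F q) p ha x -
    N.rW (Nerve.Aq F q) p hd ((N.dc F W₁).hIn x₁ p q) - N.rW (Nerve.Aq F q) p hb (N.aug F W₀ t p q)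
  have hr : (N.dc F W₂).v p q r = 0 := by
    have h1 : ∀ {A : Opens S} (h : W₂ ≤ A) (u : N.Cx (Nerve.Aq F q) p A), (N.dc F A).v p q u = 0 →
        (N.dc F W₂).v p q (N.rW (Nerve.Aq F q) p h u) = 0 := fun h u hu =>
      (N.app_rW ((mdl F).dA (q + 1)) p h u).trans ((congrArg _ hu).trans (map_zero _))
    have h2 : (N.dc F W₁).v p q ((N.dc F W₁).hIn x₁ p q) = 0 := by
      rcases p with _ | p
      · exact map_zero _
      · exact ((N.dc F W₁).comm p q _).symm.trans ((congrArg _ (hx₁ p q)).trans (map_zero _))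
    have h3 : (N.dc F W₀).v p q (N.aug F W₀ t p q) = 0 := by
      rcases p with _ | p <;> rcases q with _ | q
      · exact funext fun j => (mdl F).dA_dA 0 _ _ _
      all_goals exact map_zero _
    refine ((map_sub _ _ _).trans (congrArg₂ (· - ·) ((map_sub _ _ _).trans (congrArg₂ (· - ·)
      (h1 ha x hv) (h1 hd _ h2))) (h1 hb _ h3))).trans ?_
    rw [sub_zero, sub_zero]
  have er : fibRes f s (Nerve.Aq F q) p hs₂ r = (N'.dc F ⊤).vIn (up y' - y₁) p q := by
    rw [vIn_sub]
    refine ((map_sub _ _ _).trans (congrArg₂ (· - ·) ((map_sub _ _ _).trans (congrArg₂ (· - ·)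
      ((fibRes_rW f s _ p ha hs₂ x).trans e') ((fibRes_rW f s _ p hd hs₂ _).trans e₁)))
      (fibRes_rW f s _ p hb hs₂ _))).trans ?_
    abel
  obtain ⟨W₃, h₃, y₃, hs₃, e₃⟩ := exists_vanish f s hf hsep F p q hs₂ r hr _ er
  refine ⟨W₃, h₃.trans ha, N.rM F (h₃.trans hd) x₁, y₃, rs F.obj (h₃.trans hb) t, hs₃,
    fun a b => (N.app_rW ((mdl F).dA (b + 1)) a (h₃.trans hd) _).trans ((congrArg _ (hx₁ a b)).trans (map_zero _)), ?_⟩
  rw [← N.rM_hIn, ← N.rM_aug]
  have e₄ := (map_sub (N.rW (Nerve.Aq F q) p h₃) _ _).symm.trans e₃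
  rw [map_sub] at e₄
  erw [rW_rW N (Nerve.Aq F q) p ha h₃, rW_rW N (Nerve.Aq F q) p hd h₃, rW_rW N (Nerve.Aq F q) p hb h₃] at e₄
  rw [← e₄]
  show _ = _ + _ + N.rW (Nerve.Aq F q) p (h₃.trans hb) (N.aug F W₀ t p q)
  abel

include hf hsep in
/-- Local exactness for a proper separated surjection. -/
theorem critL_proper (hsurj : Function.Surjective f) : (cech f).CritL F := by
  intro W s hs p q x hv hw
  obtain ⟨w, hw⟩ := hw
  obtain ⟨x₀, hx₀⟩ := hsurj s
  exact critL_proper_at f s hf hsep F x₀ hx₀ W hs p q x hv w hw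

end Groth.Agent.Desc49
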