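import Groth.Agent.Desc49.Nerve
import Groth.Agent.Desc49.Model
import Groth.Agent.Desc49.FlasqueRes
import Groth.Agent.SpSeq49.Double

/-!
The total resolution attached to a semi-simplicial system of spaces over the base.
-/

universe u

open CategoryTheory Limits TopologicalSpace Opposite
open Groth.Agent.TopCoh49 Groth.Agent.SpSeq49

namespace Groth.Agent.Desc49

namespace Nerve

variable {S : TopCat.{u}} (N : Nerve S) (F : CohTop.Ab S)

/-- The flasque families resolving the inverse images of `F`. -/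
noncomputable abbrev Aq (q : ℕ) : Fam S := (mdl F).A (q + 1)

/-- The double complex over an open of the base. -/
noncomputable def dc (W : Opens S) : DC.{u} where
  Φ p q := AddCommGrpCat.of (N.Cx (Aq F q) p W)
  v p q := N.app ((mdl F).dA (q + 1)) p W
  h p q := N.δs (Aq F q) p W
  vv p q x := funext fun j => (mdl F).dA_dA (q + 1) _ _ _
  hh p q x := N.δs_δs _ p W x
  comm p q x := (N.app_δs ((mdl F).dA (q + 1)) p W x).symm

/-- Restriction of families. -/
noncomputable def rM {W W' : Opens S} (h : W' ≤ W) : (N.dc F W).Fam →+ (N.dc F W').Fam where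
  toFun y p q := N.rW (Aq F q) p h (y p q)
  map_zero' := funext fun _ => funext fun _ => map_zero _
  map_add' _ _ := funext fun _ => funext fun _ => map_add _ _ _

lemma rM_vIn {W W' : Opens S} (h : W' ≤ W) (y : (N.dc F W).Fam) (p q : ℕ) :
    N.rW (Aq F q) p h ((N.dc F W).vIn y p q) = (N.dc F W').vIn (N.rM F h y) p q := by
  rcases q with _ | q
  · exact map_zero _
  · exact (N.app_rW ((mdl F).dA (q + 1)) p h _).symm

lemma rM_hIn {W W' : Opens S} (h : W' ≤ W) (y : (N.dc F W).Fam) (p q : ℕ) :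
    N.rW (Aq F q) p h ((N.dc F W).hIn y p q) = (N.dc F W').hIn (N.rM F h y) p q := by
  rcases p with _ | p
  · exact map_zero _
  · exact N.rW_δs _ p h _

lemma rM_Dt {W W' : Opens S} (h : W' ≤ W) (y : (N.dc F W).Fam) :
    N.rM F h ((N.dc F W).Dt y) = (N.dc F W').Dt (N.rM F h y) := by
  funext p q
  show N.rW (Aq F q) p h ((N.dc F W).Dt y p q) = _
  rw [DC.Dt_apply, DC.Dt_apply, ← rM_vIn, ← rM_hIn]
  exact (map_add _ _ _).trans (congrArg (· + _) (map_zsmul _ _ _))

lemma rM_mem {W W' : Opens S} (h : W' ≤ W) {n : ℤ} {y : (N.dc F W).Fam}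
    (hy : y ∈ (N.dc F W).Supp Set.univ n) : N.rM F h y ∈ (N.dc F W').Supp Set.univ n := fun p q hpq => by
  show N.rW (Aq F q) p h (y p q) = 0
  rw [hy p q hpq]
  exact map_zero _

lemma rM_rM {A B C : Opens S} (h₁ : B ≤ A) (h₂ : C ≤ B) (y : (N.dc F A).Fam) :
    N.rM F h₂ (N.rM F h₁ y) = N.rM F (h₂.trans h₁) y := by
  funext p q j
  exact rs_rs ((Aq F q).sh (N.Y p j)).obj ((Opens.map (N.Y p j).hom).monotone h₁) ((Opens.map (N.Y p j).hom).monotone h₂) (y p q j)

lemma rM_self {A : Opens S} (h : A ≤ A) (y : (N.dc F A).Fam) : N.rM F h y = y := by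
  funext p q j
  exact rs_self ((Aq F q).sh (N.Y p j)).obj ((Opens.map (N.Y p j).hom).monotone h) (y p q j)

/-- Restriction of elements of the total complex. -/
noncomputable def rT {W W' : Opens S} (h : W' ≤ W) (n : ℤ) :
    (N.dc F W).Supp Set.univ n →+ (N.dc F W').Supp Set.univ n where
  toFun y := ⟨N.rM F h y.1, N.rM_mem F h y.2⟩
  map_zero' := Subtype.ext (map_zero (N.rM F h))
  map_add' a b := Subtype.ext (map_add (N.rM F h) a.1 b.1)

/-- The total complex in degree `n`, as a presheaf on the base. -/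
noncomputable def totPre (n : ℕ) : (Opens S)ᵒᵖ ⥤ AddCommGrpCat.{u} where
  obj W := AddCommGrpCat.of ((N.dc F W.unop).Supp Set.univ (n : ℤ))
  map {W W'} i := AddCommGrpCat.ofHom (N.rT F (leOfHom i.unop) (n : ℤ))
  map_id W := AddCommGrpCat.ext fun y => Subtype.ext (N.rM_self F le_rfl y.1)
  map_comp i i' := AddCommGrpCat.ext fun y => Subtype.ext (N.rM_rM F _ _ y.1).symm

lemma isSheaf_totPre (n : ℕ) : TopCat.Presheaf.IsSheaf (N.totPre F n) := by
  rw [TopCat.Presheaf.isSheaf_iff_isSheafUniqueGluing]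
  intro ι U sf hsf
  let sf' : ∀ i, (N.dc F (U i)).Supp Set.univ (n : ℤ) := sf
  have hcov : ∀ {Y : Over S}, PreNerve.pre (Y := Y) (iSup U) ≤ iSup fun i => PreNerve.pre (U i) := by
    intro Y z hz
    obtain ⟨i, hi⟩ := Opens.mem_iSup.mp (show Y.hom z ∈ iSup U from hz)
    exact Opens.mem_iSup.mpr ⟨i, hi⟩
  have hle : ∀ {Y : Over S} i, PreNerve.pre (Y := Y) (U i) ≤ PreNerve.pre (iSup U) :=
    fun {Y} i => (Opens.map Y.hom).monotone (le_iSup U i)
  have hglue : ∀ p q (j : N.J p), ∃ s : ((Aq F q).sh (N.Y p j)).obj.obj (op (PreNerve.pre (iSup U))),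
      ∀ i, rs _ (hle i) s = (sf' i).1 p q j := fun p q j => by
    refine exists_glue ((Aq F q).sh (N.Y p j)) (V := fun i => PreNerve.pre (U i)) hle hcov
      (fun i => (sf' i).1 p q j) fun i k => ?_
    exact congrFun (congrFun (congrFun (congrArg Subtype.val (hsf i k)) p) q) j
  choose s hs using hglue
  refine ⟨(⟨fun p q j => s p q j, fun p q hpq => funext fun j => ?_⟩ : (N.dc F (iSup U)).Supp Set.univ (n : ℤ)), ?_, ?_⟩
  · refine eq_of_forall_rs_eq ((Aq F q).sh (N.Y p j)) (V := fun i => PreNerve.pre (U i)) hle hcov fun i => ?_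
    rw [hs, (sf' i).2 p q hpq]
    exact (map_zero _).symm
  · intro i
    exact Subtype.ext (funext fun p => funext fun q => funext fun j => hs p q j i)
  · intro t ht
    refine Subtype.ext (funext fun p => funext fun q => funext fun j => ?_)
    refine eq_of_forall_rs_eq ((Aq F q).sh (N.Y p j)) (V := fun i => PreNerve.pre (U i)) hle hcov fun i => ?_
    exact (congrFun (congrFun (congrFun (congrArg Subtype.val (ht i)) p) q) j).trans (hs p q j i).symm

/-- The total complex in degree `n`, as a sheaf on the base. -/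
noncomputable def K (n : ℕ) : CohTop.Ab S := ⟨N.totPre F n, N.isSheaf_totPre F n⟩

/-- An element of the total complex, as a family. -/
def fam {n : ℕ} {W : Opens S} (y : (N.K F n).obj.obj (op W)) : (N.dc F W).Fam :=
  (show (N.dc F W).Supp Set.univ (n : ℤ) from y).1

/-- A family, as an element of the total complex. -/
def ofFam {n : ℕ} {W : Opens S} (y : (N.dc F W).Fam) (hy : y ∈ (N.dc F W).Supp Set.univ (n : ℤ)) :
    (N.K F n).obj.obj (op W) :=
  (⟨y, hy⟩ : (N.dc F W).Supp Set.univ (n : ℤ))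

lemma fam_mem {n : ℕ} {W : Opens S} (y : (N.K F n).obj.obj (op W)) :
    N.fam F y ∈ (N.dc F W).Supp Set.univ (n : ℤ) := (show (N.dc F W).Supp Set.univ (n : ℤ) from y).2

lemma K_ext {n : ℕ} {W : Opens S} {y z : (N.K F n).obj.obj (op W)} (h : N.fam F y = N.fam F z) : y = z :=
  Subtype.ext h

lemma fam_rs {n : ℕ} {W W' : Opens S} (h : W' ≤ W) (y : (N.K F n).obj.obj (op W)) :
    N.fam F (rs (N.K F n).obj h y) = N.rM F h (N.fam F y) := rfl

lemma fam_ofFam {n : ℕ} {W : Opens S} (y : (N.dc F W).Fam) (hy : y ∈ (N.dc F W).Supp Set.univ (n : ℤ)) :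
    N.fam F (N.ofFam F y hy) = y := rfl

lemma fam_zero {n : ℕ} {W : Opens S} : N.fam F (0 : (N.K F n).obj.obj (op W)) = 0 := rfl

lemma isFlasque_K (n : ℕ) : TopCat.Sheaf.IsFlasque (N.K F n) where
  epi {W W'} i := by
    rw [AddCommGrpCat.epi_iff_surjective]
    intro y
    have hsur : ∀ p q (j : N.J p), ∃ s : ((Aq F q).sh (N.Y p j)).obj.obj (op (PreNerve.pre W.unop)),
        rs _ ((Opens.map (N.Y p j).hom).monotone (leOfHom i.unop)) s = N.fam F y p q j ∧
          (N.fam F y p q j = 0 → s = 0) := fun p q j => by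
      by_cases h : N.fam F y p q j = 0
      · exact ⟨0, (map_zero _).trans h.symm, fun _ => rfl⟩
      · have := (mdl F).isFlasque_A q (N.Y p j)
        obtain ⟨s, hs⟩ := (AddCommGrpCat.epi_iff_surjective _).mp (this.epi
          (homOfLE ((Opens.map (N.Y p j).hom).monotone (leOfHom i.unop))).op) (N.fam F y p q j)
        exact ⟨s, hs, fun h' => absurd h' h⟩
    choose s hs hs0 using hsur
    refine ⟨N.ofFam F (fun p q j => s p q j) fun p q hpq => funext fun j => hs0 p q j ?_, ?_⟩
    · rw [N.fam_mem F y p q hpq]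
      rfl
    · exact N.K_ext F (funext fun p => funext fun q => funext fun j => hs p q j)

lemma tr_univ (W : Opens S) (y : (N.dc F W).Fam) : (N.dc F W).tr Set.univ y = y :=
  funext fun p => funext fun q => (N.dc F W).tr_pos y (Set.mem_univ p) q

lemma Dt_mem {n : ℕ} {W : Opens S} (y : (N.K F n).obj.obj (op W)) :
    (N.dc F W).Dt (N.fam F y) ∈ (N.dc F W).Supp Set.univ ((n + 1 : ℕ) : ℤ) := by
  rw [← tr_univ N F W ((N.dc F W).Dt _), Nat.cast_succ]
  exact (N.dc F W).D_mem (N.fam_mem F y)

/-- The total differential. -/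
noncomputable def dK (n : ℕ) : N.K F n ⟶ N.K F (n + 1) :=
  ⟨{ app := fun W => AddCommGrpCat.ofHom
      { toFun := fun y => N.ofFam F ((N.dc F W.unop).Dt (N.fam F y)) (N.Dt_mem F y)
        map_zero' := N.K_ext F (map_zero (N.dc F W.unop).Dt)
        map_add' := fun a b => N.K_ext F (map_add (N.dc F W.unop).Dt (N.fam F a) (N.fam F b)) }
     naturality := fun W W' i => AddCommGrpCat.ext fun y =>
      N.K_ext F (N.rM_Dt F (leOfHom i.unop) (N.fam F y)).symm }⟩

/-- The augmentation family of a section. -/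
noncomputable def augFun (W : Opens S) (t : F.obj.obj (op W)) : ∀ p q, N.Cx (Aq F q) p W
  | 0, 0 => fun j => ((mdl F).dA 0).app _ _ (mdlOf F _ W t)
  | _, _ => 0

/-- The augmentation. -/
noncomputable def aug (W : Opens S) : F.obj.obj (op W) →+ (N.dc F W).Fam where
  toFun := N.augFun F W
  map_zero' := funext fun p => funext fun q => by
    rcases p with _ | p <;> rcases q with _ | q
    · exact funext fun j => (congrArg _ (map_zero (mdlOf F _ W))).trans (map_zero _)
    all_goals rfl
  map_add' a b := funext fun p => funext fun q => by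
    rcases p with _ | p <;> rcases q with _ | q
    · exact funext fun j => (congrArg _ (map_add (mdlOf F _ W) a b)).trans (map_add _ _ _)
    all_goals exact (add_zero _).symm

lemma aug_mem (W : Opens S) (t : F.obj.obj (op W)) : N.aug F W t ∈ (N.dc F W).Supp Set.univ ((0 : ℕ) : ℤ) := by
  intro p q hpq
  rcases p with _ | p <;> rcases q with _ | q
  · exact absurd ⟨Set.mem_univ _, rfl⟩ hpq
  all_goals rfl

lemma rM_aug {W W' : Opens S} (h : W' ≤ W) (t : F.obj.obj (op W)) :
    N.rM F h (N.aug F W t) = N.aug F W' (rs F.obj h t) := by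
  funext p q
  rcases p with _ | p <;> rcases q with _ | q
  · funext j
    refine (((mdl F).dA 0).natural_rs ((Opens.map (N.Y 0 j).hom).monotone h) _).symm.trans (congrArg _ ?_)
    refine Subtype.ext (funext fun ⟨z, hz⟩ => funext fun ⟨x, hx⟩ => ?_)
    exact (germ_rs F h x (hx ▸ hz) t).symm
  all_goals exact map_zero (N.rW (Aq F _) _ h)

/-- The family of inverse images of a section. -/
noncomputable def mdlCx (p : ℕ) (W : Opens S) (t : F.obj.obj (op W)) : N.Cx (mdl F) p W :=
  fun j => mdlOf F (N.Y p j) W t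

lemma δi_mdlOf (p : ℕ) (i : Fin (p + 2)) (W : Opens S) (t : F.obj.obj (op W)) :
    N.δi (mdl F) p i W (N.mdlCx F p W t) = N.mdlCx F (p + 1) W t := by
  funext j
  refine Subtype.ext (funext fun ⟨z, hz⟩ => funext fun ⟨x, hx⟩ => ?_)
  rfl

lemma Dt_aug (W : Opens S) (t : F.obj.obj (op W)) : (N.dc F W).Dt (N.aug F W t) = 0 := by
  funext p q
  rw [DC.Dt_apply]
  have hv : (N.dc F W).vIn (N.aug F W t) p q = 0 := by
    rcases q with _ | q
    · rfl
    rcases p with _ | p <;> rcases q with _ | q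
    · exact funext fun j => (mdl F).dA_dA 0 _ _ _
    all_goals exact map_zero _
  have hh' : (N.dc F W).hIn (N.aug F W t) p q = 0 := by
    rcases p with _ | p
    · rfl
    rcases p with _ | p <;> rcases q with _ | q
    · refine (N.app_δs ((mdl F).dA 0) 0 W (N.mdlCx F 0 W t)).symm.trans ?_
      show N.app ((mdl F).dA 0) 1 W (N.δs (mdl F) 0 W (N.mdlCx F 0 W t)) = 0
      rw [PreNerve.δs_apply]
      simp [Fin.sum_univ_two, δi_mdlOf]
      exact map_zero (N.app ((mdl F).dA 0) 1 W)
    all_goals exact map_zero _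
  rw [hv, hh', smul_zero, add_zero]
  rfl

/-- The augmentation of the total resolution. -/
noncomputable def εK : F ⟶ N.K F 0 :=
  ⟨{ app := fun W => AddCommGrpCat.ofHom
      (AddMonoidHom.mk' (fun t => N.ofFam F (N.aug F W.unop t) (N.aug_mem F W.unop t))
        fun a b => N.K_ext F (map_add (N.aug F W.unop) a b))
     naturality := fun W W' i => AddCommGrpCat.ext fun t =>
      N.K_ext F (N.rM_aug F (leOfHom i.unop) t).symm }⟩

end Nerve

end Groth.Agent.Desc49
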